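import Groth.Agent.KosExt.Ring

/-!
An element regular modulo an ideal generated by a regular sequence is regular on the Koszul homology of
any other system of generators.
-/

set_option autoImplicit false
set_option backward.isDefEq.respectTransparency false
set_option backward.isDefEq.respectTransparency.types false

universe u v

namespace Groth.Agent.KosTwist

open Groth.Agent Wiebe KosExt

section Model

variable {R : Type u} [CommRing R]

/-- Multiplication by `x` is injective on the Koszul homology of `f`. -/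
def XReg {n : ℕ} (f : Fin n → R) (x : R) : Prop :=
  ∀ z : X R n, d f z = 0 → ∀ w, d f w = x • z → ∃ v, d f v = z

lemma exists_homotopy {n : ℕ} {f : Fin n → R} {a : R} (ha : a ∈ Ideal.span (Set.range f)) :
    ∃ c : Fin n → R, ∀ b, d f b = 0 → d f (w c b) = a • b := by
  obtain ⟨c, hc⟩ := (Submodule.mem_span_range_iff_exists_fun R).mp ha
  refine ⟨c, fun b hb => ?_⟩
  have h := d_w f c b
  rw [hb, map_zero, add_zero] at h
  rw [h, ← hc]
  rfl

/-- An element of the ideal of the others can be inserted or removed. -/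
theorem xReg_succ {n : ℕ} (f : Fin (n + 1) → R) (x : R)
    (h : f 0 ∈ Ideal.span (Set.range (Fin.tail f))) : XReg f x ↔ XReg (Fin.tail f) x := by
  obtain ⟨c, hc⟩ := exists_homotopy h
  constructor
  · intro H z hz w₀ hw
    obtain ⟨v, hv⟩ := H (mk (z, 0)) (by apply Wiebe.ext' <;> simp [hz])
      (mk (w₀, 0)) (by apply Wiebe.ext' <;> simp [hw])
    have h0 := congrArg p0 hv
    have h1 := congrArg p1 hv
    simp only [p0_d, p1_d, p0_mk, p1_mk, neg_eq_zero] at h0 h1
    exact ⟨p0 v + w c (p1 v), by rw [map_add, hc _ h1, h0]⟩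
  · intro H z hz w₀ hw
    have hz0 : d (Fin.tail f) (p0 z) + f 0 • p1 z = 0 := by rw [← p0_d, hz, map_zero]
    have hz1 : d (Fin.tail f) (p1 z) = 0 := by
      have := p1_d f z
      rw [hz, map_zero] at this
      exact neg_eq_zero.mp this.symm
    have hw0 : d (Fin.tail f) (p0 w₀) + f 0 • p1 w₀ = x • p0 z := by rw [← p0_d, hw, map_smul]
    have hw1 : d (Fin.tail f) (-p1 w₀) = x • p1 z := by rw [map_neg, ← p1_d, hw, map_smul]
    obtain ⟨v₁, hv₁⟩ := H (p1 z) hz1 _ hw1
    have hcyc : d (Fin.tail f) (p1 w₀ + x • v₁) = 0 := by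
      rw [map_neg] at hw1
      rw [map_add, map_smul, hv₁, ← hw1, add_neg_cancel]
    have hz' : d (Fin.tail f) (p0 z + f 0 • v₁) = 0 := by rw [map_add, map_smul, hv₁, hz0]
    obtain ⟨a, ha⟩ := H (p0 z + f 0 • v₁) hz' (p0 w₀ + w c (p1 w₀ + x • v₁)) (by
      rw [map_add, hc _ hcyc, smul_add, smul_add, ← add_assoc, hw0, smul_comm])
    refine ⟨mk (a, -v₁), ?_⟩
    apply Wiebe.ext'
    · simp [ha]
    · simp [hv₁]

/-- The base case: an acyclic complex. -/
theorem xReg_of_acyclic {n : ℕ} (f : Fin n → R) (h : Acyclic f) (x : R)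
    (hx : ∀ r, x * r ∈ Ideal.span (Set.range f) → r ∈ Ideal.span (Set.range f)) : XReg f x := by
  intro z hz w₀ hw
  obtain ⟨v, r, hv⟩ := h z hz
  have hr : r ∈ Ideal.span (Set.range f) := by
    refine hx r ?_
    have h1 : (x * r) • bot R n = d f (w₀ - x • v) := by
      rw [map_sub, map_smul, hw, hv, smul_add, smul_smul]
      abel
    have h2 := congrArg eps h1
    rw [map_smul, eps_bot, smul_eq_mul, mul_one] at h2
    rw [h2]
    exact eps_mem _ _ (d_mem _ _)
  obtain ⟨c, hc⟩ := exists_homotopy hr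
  exact ⟨v + w c (bot R n), by rw [map_add, hc _ (d_bot f), hv]⟩

variable {M : Type v} [AddCommGroup M] [Module R M]

/-- Multiplication by `x` is injective on the homology of contraction with `φ`. -/
def CReg (φ : M →ₗ[R] R) (x : R) : Prop :=
  ∀ z : ExteriorAlgebra R M, con φ z = 0 → ∀ w, con φ w = x • z → ∃ v, con φ v = z

theorem xReg_iff_cReg {n : ℕ} (b : Module.Basis (Fin n) R M) (φ : M →ₗ[R] R) (x : R) :
    XReg (fun i => φ (b i)) x ↔ CReg φ x := by
  constructor
  · intro H z hz w₀ hw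
    obtain ⟨a, rfl⟩ := Ψ_surjective (R := R) b b.span_eq z
    obtain ⟨c, rfl⟩ := Ψ_surjective (R := R) b b.span_eq w₀
    rw [con_Ψ] at hz hw
    rw [← map_smul] at hw
    obtain ⟨v, hv⟩ := H a (Ψ_injective b (hz.trans (map_zero _).symm)) c (Ψ_injective b hw)
    exact ⟨Ψ b v, by rw [con_Ψ, hv]⟩
  · intro H z hz w₀ hw
    obtain ⟨v, hv⟩ := H (Ψ b z) (by rw [con_Ψ, hz, map_zero]) (Ψ b w₀) (by rw [con_Ψ, hw, map_smul])
    obtain ⟨a, rfl⟩ := Ψ_surjective (R := R) b b.span_eq v
    exact ⟨a, Ψ_injective b (by rw [← con_Ψ, hv])⟩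

theorem xReg_reindex {n m : ℕ} (e : Fin m ≃ Fin n) (f : Fin n → R) (x : R) :
    XReg (fun i => f (e i)) x ↔ XReg f x := by
  classical
  have hb : ∀ i, Fintype.linearCombination R f (Pi.basisFun R (Fin n) i) = f i := fun i => by
    rw [Pi.basisFun_apply, Fintype.linearCombination_apply_single, one_smul]
  have h1 := xReg_iff_cReg (Pi.basisFun R (Fin n)) (Fintype.linearCombination R f) x
  have h2 := xReg_iff_cReg ((Pi.basisFun R (Fin n)).reindex e.symm) (Fintype.linearCombination R f) x
  simp only [Module.Basis.reindex_apply, Equiv.symm_symm, hb] at h1 h2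
  exact h2.trans h1.symm

theorem xReg_append {c : ℕ} (g : Fin c → R) (x : R) : ∀ {n : ℕ} (u : Fin n → R),
    (∀ i, u i ∈ Ideal.span (Set.range g)) → (XReg (Fin.append u g) x ↔ XReg g x) := by
  intro n
  induction n with
  | zero =>
    intro u _
    have : Fin.append u g = fun i => g (finCongr (Nat.zero_add c) i) := by
      funext i
      refine Fin.addCases (fun j => j.elim0) (fun j => ?_) i
      rw [Fin.append_right]
      congr 1
      exact Fin.ext (by simp)
    rw [this]
    exact xReg_reindex _ g x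
  | succ n ih =>
    intro u hu
    have : Fin.append u g =
        fun i => (Fin.cons (u 0) (Fin.append (Fin.tail u) g) : Fin (n + c + 1) → R)
          (finCongr (Nat.add_right_comm n 1 c) i) := by
      funext i
      refine Fin.addCases (fun j => ?_) (fun j => ?_) i
      · rw [Fin.append_left]
        refine Fin.cases ?_ (fun k => ?_) j
        · rfl
        · rw [show (finCongr (Nat.add_right_comm n 1 c) (Fin.castAdd c k.succ) : Fin (n + c + 1)) =
              (Fin.castAdd c k).succ from Fin.ext (by simp), Fin.cons_succ, Fin.append_left]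
          rfl
      · rw [Fin.append_right, show (finCongr (Nat.add_right_comm n 1 c) (Fin.natAdd (n + 1) j) : Fin (n + c + 1)) =
            (Fin.natAdd n j).succ from Fin.ext (by simp; omega), Fin.cons_succ, Fin.append_right]
    rw [this, xReg_reindex, xReg_succ, Fin.tail_cons]
    · exact ih (Fin.tail u) fun i => hu i.succ
    · rw [Fin.cons_zero, Fin.tail_cons]
      refine Ideal.span_mono ?_ (hu 0)
      rintro _ ⟨j, rfl⟩
      exact ⟨Fin.natAdd n j, Fin.append_right _ _ j⟩

/-- The criterion: another system of generators of a regular ideal. -/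
theorem xReg_of_span {n c : ℕ} (u : Fin n → R) (g : Fin c → R) (x : R)
    (hg : RingTheory.Sequence.IsWeaklyRegular R (List.ofFn g))
    (hug : Ideal.span (Set.range u) = Ideal.span (Set.range g))
    (hx : ∀ r, x * r ∈ Ideal.span (Set.range g) → r ∈ Ideal.span (Set.range g)) : XReg u x := by
  have hrev : Set.range (fun i : Fin c => g i.rev) = Set.range g :=
    Fin.revPerm.surjective.range_comp g
  have h0 : XReg g x := (xReg_reindex Fin.revPerm g x).1
    (xReg_of_acyclic _ (acyclic_rev g hg) x (by rw [hrev]; exact hx))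
  have h1 : XReg (Fin.append u g) x :=
    (xReg_append g x u fun i => hug ▸ Ideal.subset_span ⟨i, rfl⟩).2 h0
  have h2 : Fin.append u g = fun i => Fin.append g u (finAddFlip i) := by
    funext i
    refine Fin.addCases (fun j => ?_) (fun j => ?_) i <;> simp
  rw [h2, xReg_reindex] at h1
  exact (xReg_append u x g fun i => hug.symm ▸ Ideal.subset_span ⟨i, rfl⟩).1 h1

end Model

section Graded

variable {R : Type u} [CommRing R] {M : Type v} [AddCommGroup M] [Module R M]

local notation "EA" => ExteriorAlgebra R M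

lemma con_degree_zero (φ : M →ₗ[R] R) {y : EA} (hy : y ∈ ⋀[R]^0 M) : con φ y = 0 := by
  have hm : y ∈ (1 : Submodule R EA) := by simpa [ExteriorAlgebra.exteriorPower] using hy
  obtain ⟨a, rfl⟩ := Submodule.mem_one.mp hm
  rw [Algebra.algebraMap_eq_smul_one, map_smul, con_one, smul_zero]

lemma con_proj (φ : M →ₗ[R] R) (p : ℕ) (y : EA) :
    con φ (GradedAlgebra.proj (fun i : ℕ ↦ ⋀[R]^i M) (p + 1) y) =
      GradedAlgebra.proj (fun i : ℕ ↦ ⋀[R]^i M) p (con φ y) := by
  induction y using DirectSum.Decomposition.inductionOn (ℳ := fun i : ℕ ↦ ⋀[R]^i M) with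
  | zero => simp
  | homogeneous m =>
    rename_i j
    simp only [GradedAlgebra.proj_apply]
    rcases j with _ | j
    · rw [con_degree_zero φ m.2, DirectSum.decompose_of_mem_ne (fun i : ℕ ↦ ⋀[R]^i M) m.2 (by omega)]
      simp
    · by_cases hj : j = p
      · subst hj
        rw [DirectSum.decompose_of_mem_same (fun i : ℕ ↦ ⋀[R]^i M) m.2,
          DirectSum.decompose_of_mem_same (fun i : ℕ ↦ ⋀[R]^i M) (con_mem φ m.2)]
      · rw [DirectSum.decompose_of_mem_ne (fun i : ℕ ↦ ⋀[R]^i M) m.2 (by omega),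
          DirectSum.decompose_of_mem_ne (fun i : ℕ ↦ ⋀[R]^i M) (con_mem φ m.2) hj, map_zero]
  | add y y' hy hy' => simp only [map_add, hy, hy']

lemma rule_eq_con (φ : M →ₗ[R] R) (p : ℕ) (L : ↥(⋀[R]^(p + 1) M) →ₗ[R] ↥(⋀[R]^p M))
    (hL : ∀ e, L (exteriorPower.ιMulti R (p + 1) e) = KoszSh.dGen φ p e) (y : ↥(⋀[R]^(p + 1) M)) :
    (L y : EA) = con φ (y : EA) := by
  have hy : y ∈ Submodule.span R (Set.range (exteriorPower.ιMulti R (p + 1) (M := M))) := by
    rw [exteriorPower.ιMulti_span]; exact Submodule.mem_top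
  induction hy using Submodule.span_induction with
  | mem z hz => obtain ⟨e, rfl⟩ := hz; rw [hL, exteriorPower.ιMulti_apply_coe, con_ιMulti]
  | zero => simp
  | add z w _ _ hz hw => simp [hz, hw]
  | smul r z _ hz => simp [hz]

/-- The criterion on exterior powers. -/
theorem exists_of_rule {φ : M →ₗ[R] R} {x : R} (h : CReg φ x) (p : ℕ)
    (D : ↥(⋀[R]^(p + 1) M) →ₗ[R] ↥(⋀[R]^p M))
    (hD : ∀ e, D (exteriorPower.ιMulti R (p + 1) e) = KoszSh.dGen φ p e)
    (z : ↥(⋀[R]^p M)) (hz : con φ (z : EA) = 0) (w₀ : ↥(⋀[R]^(p + 1) M)) (hw : D w₀ = x • z) :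
    ∃ v, D v = z := by
  obtain ⟨v, hv⟩ := h z hz w₀ (by rw [← rule_eq_con φ p D hD, hw]; rfl)
  let v' : ↥(⋀[R]^(p + 1) M) := ⟨GradedAlgebra.proj (fun i : ℕ ↦ ⋀[R]^i M) (p + 1) v, by
    rw [GradedAlgebra.proj_apply]; exact Subtype.coe_prop _⟩
  refine ⟨v', Subtype.ext ?_⟩
  rw [rule_eq_con φ p D hD]
  show con φ (GradedAlgebra.proj (fun i : ℕ ↦ ⋀[R]^i M) (p + 1) v) = _
  rw [con_proj, hv, GradedAlgebra.proj_apply,
    DirectSum.decompose_of_mem_same (fun i : ℕ ↦ ⋀[R]^i M) z.2]

end Graded

end Groth.Agent.KosTwist
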