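import Groth.Agent.KosTwist.Main
import Groth.Agent.KosTwist.Regular
import Groth.Agent.AVOmega.Basic
import Groth.Agent.TMul.Ample
import Groth.Agent.TMul.GlobGen
import Groth.Agent.S8914
import Mathlib.LinearAlgebra.ExteriorAlgebra.Basic

/-!
The cycles of the Koszul complex of copies of one invertible ideal.
-/

universe u

open CategoryTheory CategoryTheory.Limits AlgebraicGeometry TopologicalSpace Opposite

set_option autoImplicit false
set_option backward.isDefEq.respectTransparency false
set_option backward.isDefEq.respectTransparency.types false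
set_option linter.style.haveILetI false

noncomputable section

namespace Groth.Agent.KosTwist

open Groth.Agent.QC
open Groth.Agent.KosExt (con con_ι_mul con_one)

section Algebra

variable {R : Type u} [CommRing R] {M N : Type u} [AddCommGroup M] [Module R M] [AddCommGroup N] [Module R N]

lemma coe_map (f : M →ₗ[R] N) (p : ℕ) (z : ↥(⋀[R]^p M)) :
    (exteriorPower.map p f z : ExteriorAlgebra R N) = ExteriorAlgebra.map f (z : ExteriorAlgebra R M) := by
  have hz : z ∈ Submodule.span R (Set.range (exteriorPower.ιMulti R p (M := M))) := by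
    rw [exteriorPower.ιMulti_span]; exact Submodule.mem_top
  induction hz using Submodule.span_induction with
  | mem y hy =>
    obtain ⟨v, rfl⟩ := hy
    rw [exteriorPower.map_apply_ιMulti, exteriorPower.ιMulti_apply_coe, exteriorPower.ιMulti_apply_coe,
      ExteriorAlgebra.map_apply_ιMulti]
  | zero => simp
  | add a b _ _ ha hb => simp [ha, hb]
  | smul r a _ ha => simp [ha]

/-- A section of a surjection with kernel spanned by `e₀` lands in the cycles. -/
lemma con_map_eq_zero (σ : M →ₗ[R] R) (s : N →ₗ[R] M) (h : ∀ v, σ (s v) = 0) (y : ExteriorAlgebra R N) :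
    con σ (ExteriorAlgebra.map s y) = 0 := by
  induction y using CliffordAlgebra.left_induction with
  | algebraMap r => rw [AlgHom.commutes, Algebra.algebraMap_eq_smul_one, map_smul, con_one, smul_zero]
  | add a b ha hb => rw [map_add, map_add, ha, hb, add_zero]
  | ι_mul x m hx =>
    rw [map_mul, show CliffordAlgebra.ι (0 : QuadraticForm R N) m = ExteriorAlgebra.ι R m from rfl,
      ExteriorAlgebra.map_apply_ι, con_ι_mul, h, hx]
    simp

/-- The homotopy formula for contraction. -/
lemma map_proj_eq (σ : M →ₗ[R] R) (e₀ : M) (Q : M →ₗ[R] M) (hQ : ∀ m, Q m = m - σ m • e₀)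
    (z : ExteriorAlgebra R M) :
    ExteriorAlgebra.map Q z = z - ExteriorAlgebra.ι R e₀ * con σ z := by
  induction z using CliffordAlgebra.left_induction with
  | algebraMap r =>
    rw [AlgHom.commutes, Algebra.algebraMap_eq_smul_one, map_smul, con_one, smul_zero, mul_zero, sub_zero]
  | add a b ha hb => rw [map_add, map_add, ha, hb, mul_add, add_sub_add_comm]
  | ι_mul x m hx =>
    rw [map_mul, show CliffordAlgebra.ι (0 : QuadraticForm R M) m = ExteriorAlgebra.ι R m from rfl,
      ExteriorAlgebra.map_apply_ι, con_ι_mul, hx, hQ, map_sub, map_smul]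
    have h1 : ExteriorAlgebra.ι R e₀ * ExteriorAlgebra.ι R e₀ = 0 := ExteriorAlgebra.ι_sq_zero e₀
    have h2 : ExteriorAlgebra.ι R e₀ * ExteriorAlgebra.ι R m =
        -(ExteriorAlgebra.ι R m * ExteriorAlgebra.ι R e₀) :=
      eq_neg_of_add_eq_zero_right (ExteriorAlgebra.ι_add_mul_swap m e₀)
    simp only [sub_mul, mul_sub, smul_mul_assoc, mul_smul_comm, ← mul_assoc, h1, h2, zero_mul, smul_zero,
      neg_mul]
    abel

/-- Cycles of a split contraction are the exterior power of the complement. -/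
theorem cycles_equiv (σ : M →ₗ[R] R) (e₀ : M) (P : M →ₗ[R] N) (s : N →ₗ[R] M)
    (hPs : ∀ v, P (s v) = v) (hσs : ∀ v, σ (s v) = 0) (hsP : ∀ m, s (P m) = m - σ m • e₀) (p : ℕ) :
    (∀ z : ↥(⋀[R]^p M), con σ (z : ExteriorAlgebra R M) = 0 → exteriorPower.map p P z = 0 → z = 0) ∧
    ∀ y : ↥(⋀[R]^p N), ∃ z : ↥(⋀[R]^p M), con σ (z : ExteriorAlgebra R M) = 0 ∧
      exteriorPower.map p P z = y := by
  refine ⟨fun z hz hP => ?_, fun y => ⟨exteriorPower.map p s y, ?_, ?_⟩⟩
  · apply Subtype.ext
    have h := map_proj_eq σ e₀ (s ∘ₗ P) hsP (z : ExteriorAlgebra R M)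
    rw [hz, mul_zero, sub_zero] at h
    rw [← h, ← ExteriorAlgebra.map_comp_map]
    show ExteriorAlgebra.map s (ExteriorAlgebra.map P (z : ExteriorAlgebra R M)) = 0
    rw [← coe_map, hP]
    simp
  · rw [coe_map]
    exact con_map_eq_zero σ s hσs _
  · have : P ∘ₗ s = LinearMap.id := LinearMap.ext hPs
    rw [← LinearMap.comp_apply, ← exteriorPower.map_comp, this, exteriorPower.map_id]
    rfl

end Algebra

variable {X : Scheme.{u}}

lemma isGen_one (W : X.Opens) :
    TMul.IsGen (N := Coh.structureModule X) (show Γ(Coh.structureModule X, W) from (1 : Γ(X, W))) := by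
  intro V hV
  have : (fun c : Γ(X, V) => c • res (Coh.structureModule X) hV
      (show Γ(Coh.structureModule X, W) from (1 : Γ(X, W)))) = id := by
    funext c
    change HMul.hMul (α := Γ(X, V)) (β := Γ(X, V)) (γ := Γ(X, V)) c (resO X hV (1 : Γ(X, W))) = c
    rw [map_one, mul_one]
  exact this ▸ Function.bijective_id

/-- The projection forgetting the first copy. -/
def projFree (I : X.IdealSheafData) : (n : ℕ) →
    ((∐ fun _ : Fin n => ClSub.idealMod I) ⟶ FlatMod.freeMod X (n - 1))
  | 0 => 0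
  | m + 1 => Limits.Sigma.desc (Fin.cases 0 fun j =>
      ClSub.idealModι I ≫ Sigma.ι (fun _ : Fin m => Coh.structureModule X) j)

/-- Over a chart. -/
theorem exists_split (I : X.IdealSheafData) (n : ℕ) (W : X.affineOpens) {u : Γ(X, W.1)}
    (hu : u ∈ nonZeroDivisors Γ(X, W.1)) (hI : I.ideal W = Ideal.span {u}) :
    ∃ (_ : Module.Basis (Fin n) Γ(X, W.1) Γ(∐ fun _ : Fin n => ClSub.idealMod I, W.1))
      (_ : Module.Basis (Fin (n - 1)) Γ(X, W.1) Γ(FlatMod.freeMod X (n - 1), W.1))
      (σ : Γ(∐ fun _ : Fin n => ClSub.idealMod I, W.1) →ₗ[Γ(X, W.1)] Γ(X, W.1))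
      (e₀ : Γ(∐ fun _ : Fin n => ClSub.idealMod I, W.1))
      (P : Γ(∐ fun _ : Fin n => ClSub.idealMod I, W.1) →ₗ[Γ(X, W.1)] Γ(FlatMod.freeMod X (n - 1), W.1))
      (s : Γ(FlatMod.freeMod X (n - 1), W.1) →ₗ[Γ(X, W.1)] Γ(∐ fun _ : Fin n => ClSub.idealMod I, W.1)),
      (∀ v, P (s v) = v) ∧ (∀ v, σ (s v) = 0) ∧ (∀ m, s (P m) = m - σ m • e₀) ∧
      KoszSh.secForm (Limits.Sigma.desc fun _ : Fin n => ClSub.idealModι I) W.1 = u • σ ∧
      appₗ (projFree I n) W.1 = u • P ∧ (1 ≤ n → σ e₀ = 1) := by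
  obtain ⟨e, he, heg⟩ := exists_gen_of_span I W hu hI
  obtain ⟨b, hb⟩ := exists_basis_sigma (fun _ : Fin n => ClSub.idealMod I) (fun _ => e) fun _ => heg
  obtain ⟨bN, hbN⟩ := exists_basis_sigma (fun _ : Fin (n - 1) => Coh.structureModule X)
    (fun _ => (show Γ(Coh.structureModule X, W.1) from (1 : Γ(X, W.1)))) fun _ => isGen_one W.1
  cases n with
  | zero =>
    refine ⟨b, bN, 0, 0, 0, 0, fun v => ?_, fun v => rfl, fun m => ?_, b.ext fun i => i.elim0,
      b.ext fun i => i.elim0, fun h => absurd h (by omega)⟩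
    · exact bN.repr.injective (Finsupp.ext fun i => absurd i.2 (by omega))
    · exact b.repr.injective (Finsupp.ext fun i => i.elim0)
  | succ m =>
    let σ := b.constr Γ(X, W.1) fun _ => (1 : Γ(X, W.1))
    let P := b.constr Γ(X, W.1) (Fin.cases 0 fun j => bN j : Fin (m + 1) → _)
    let s := bN.constr Γ(X, W.1) fun j : Fin m => b j.succ - b 0
    have hσ : ∀ i, σ (b i) = 1 := fun i => b.constr_basis _ _ i
    have hP0 : P (b 0) = 0 := b.constr_basis _ _ 0
    have hPs' : ∀ j : Fin m, P (b j.succ) = bN j := fun j => b.constr_basis _ _ j.succ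
    have hs : ∀ j, s (bN j) = b j.succ - b 0 := fun j => bN.constr_basis _ _ j
    refine ⟨b, bN, σ, b 0, P, s, fun v => ?_, fun v => ?_, fun v => ?_, b.ext fun i => ?_,
      b.ext fun i => ?_, fun _ => hσ 0⟩
    · exact LinearMap.congr_fun (bN.ext (f₁ := P ∘ₗ s) (f₂ := LinearMap.id) fun j => by
        rw [LinearMap.comp_apply, hs, map_sub, hP0, hPs', sub_zero, LinearMap.id_apply]) v
    · exact LinearMap.congr_fun (bN.ext (f₁ := σ ∘ₗ s) (f₂ := 0) fun j => by
        rw [LinearMap.comp_apply, hs, map_sub, hσ, hσ, sub_self, LinearMap.zero_apply]) v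
    · exact LinearMap.congr_fun (b.ext (f₁ := s ∘ₗ P) (f₂ := LinearMap.id - σ.smulRight (b 0)) fun i => by
        simp only [LinearMap.comp_apply, LinearMap.sub_apply, LinearMap.id_apply, LinearMap.smulRight_apply,
          hσ, one_smul]
        refine Fin.cases ?_ (fun j => ?_) i
        · rw [hP0, map_zero, sub_self]
        · rw [hPs', hs]) v
    · rw [LinearMap.smul_apply, hσ, smul_eq_mul, mul_one, hb, ← he]
      exact congr(($(Sigma.ι_desc (fun _ : Fin (m + 1) => ClSub.idealModι I) i)).app W.1 e)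
    · rw [LinearMap.smul_apply]
      refine Fin.cases ?_ (fun j => ?_) i
      · rw [hP0, smul_zero, hb]
        exact congr(($(Sigma.ι_desc (Fin.cases 0 fun j => ClSub.idealModι I ≫
          Sigma.ι (fun _ : Fin m => Coh.structureModule X) j :
            ∀ _ : Fin (m + 1), ClSub.idealMod I ⟶ FlatMod.freeMod X m) 0)).app W.1 e)
      · rw [hPs', hb, hbN, ← Scheme.Modules.Hom.app_smul]
        refine (congr(($(Sigma.ι_desc (Fin.cases 0 fun j => ClSub.idealModι I ≫
          Sigma.ι (fun _ : Fin m => Coh.structureModule X) j :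
            ∀ _ : Fin (m + 1), ClSub.idealMod I ⟶ FlatMod.freeMod X m) j.succ)).app W.1 e)).trans ?_
        refine congrArg ((Sigma.ι (fun _ : Fin m => Coh.structureModule X) j).app W.1) ?_
        show (show Γ(X, W.1) from (ClSub.idealModι I).app W.1 e) = u * 1
        rw [he, mul_one]

end Groth.Agent.KosTwist
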