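import Groth.Agent.KosTwist.Diag

/-!
Koszul complexes of copies of one invertible ideal: cycles and homology.
-/

universe u

open CategoryTheory CategoryTheory.Limits AlgebraicGeometry TopologicalSpace Opposite

set_option autoImplicit false
set_option backward.isDefEq.respectTransparency false
set_option backward.isDefEq.respectTransparency.types false
set_option linter.style.haveILetI false
set_option maxHeartbeats 1000000

noncomputable section

namespace Groth.Agent.KosTwist

open Groth.Agent.QC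
open Groth.Agent.CohFinite (tmap tmap_tm)
open Groth.Agent.KosExt (con)

variable {X : Scheme.{u}}

/-- Cycles over an affine open, through the identification with exterior powers. -/
theorem mem_range_iCycles_iff {E : X.Modules} {s : E ⟶ Coh.structureModule X} (C : KoszSh.Cx E s) (q : ℕ)
    (W : X.affineOpens) (z : Γ(C.K.X q, W.1)) :
    z ∈ Set.range ((C.K.iCycles q).app W.1) ↔
      con (KoszSh.secForm s W.1) (C.loc q W z : ExteriorAlgebra Γ(X, W.1) Γ(E, W.1)) = 0 := by
  rcases q with _ | p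
  · refine iff_of_true ((mem_range_iCycles C.K 0 0 (ChainComplex.next_nat_zero) W.1 z).2 ?_)
      (con_degree_zero _ (C.loc 0 W z).2)
    rw [C.K.shape 0 0 (by simp)]
    rfl
  · rw [mem_range_iCycles C.K (p + 1) p (by simp) W.1 z,
      ← rule_eq_con (KoszSh.secForm s W.1) p (KosExt.dLin C p W) (KosExt.dLin_ιMulti C p W)]
    have h : KosExt.dLin C p W (C.loc (p + 1) W z) = C.loc p W ((C.K.d (p + 1) p).app W.1 z) := by
      show C.loc p W ((C.K.d (p + 1) p).app W.1 ((C.loc (p + 1) W).symm (C.loc (p + 1) W z))) = _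
      rw [LinearEquiv.symm_apply_apply]
    rw [h]
    exact ⟨fun h => by rw [h, map_zero]; rfl,
      fun h => (C.loc p W).injective ((Subtype.ext h).trans (map_zero _).symm)⟩

/-- The map from exterior powers induced by a morphism of modules. -/
theorem exists_extMap {E F : X.Modules} {s : E ⟶ Coh.structureModule X} (f : E ⟶ F) (C : KoszSh.Cx E s)
    (q : ℕ) {L : X.Modules}
    (φL : ∀ U : X.affineOpens, Γ(L, U.1) ≃ₗ[Γ(X, U.1)] ↥(⋀[Γ(X, U.1)]^q Γ(F, U.1)))
    (hφL : ∀ (U V : X.affineOpens) (h : V.1 ≤ U.1) (e : Fin q → Γ(F, U.1)),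
      res L h ((φL U).symm (exteriorPower.ιMulti _ q e)) =
        (φL V).symm (exteriorPower.ιMulti _ q fun j => res F h (e j))) :
    ∃ ρ : C.K.X q ⟶ L, ∀ (U : X.affineOpens) z,
      ρ.app U.1 z = (φL U).symm (exteriorPower.map q (appₗ f U.1) (C.loc q U z)) := by
  let ψ : ∀ U : X.affineOpens, Γ(C.K.X q, U.1) →ₗ[Γ(X, U.1)] Γ(L, U.1) := fun U =>
    (φL U).symm.toLinearMap ∘ₗ exteriorPower.map q (appₗ f U.1) ∘ₗ (C.loc q U).toLinearMap
  obtain ⟨ρ, hρ⟩ := KosExt.exists_hom_affine (C.K.X q) L ψ fun U V h z => by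
    rw [← (C.loc q U).symm_apply_apply z]
    generalize C.loc q U z = y
    have hy : y ∈ Submodule.span Γ(X, U.1)
        (Set.range (exteriorPower.ιMulti Γ(X, U.1) q (M := Γ(E, U.1)))) := by
      rw [exteriorPower.ιMulti_span]; exact Submodule.mem_top
    induction hy using Submodule.span_induction with
    | mem y hy =>
      obtain ⟨e, rfl⟩ := hy
      rw [show res (C.K.X q) h ((C.loc q U).symm (exteriorPower.ιMulti _ q e)) =
        (C.loc q V).symm (exteriorPower.ιMulti _ q fun j => res E h (e j)) from C.loc_res q U V h e]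
      simp only [ψ, LinearMap.comp_apply, LinearEquiv.coe_coe, LinearEquiv.apply_symm_apply,
        exteriorPower.map_apply_ιMulti]
      refine (hφL U V h _).trans ?_
      exact congrArg _ (congrArg _ (funext fun j => app_res f h (e j)))
    | zero => simp only [map_zero]
    | add a b _ _ h1 h2 => simp only [map_add, h1, h2]
    | smul r a _ h1 => simp only [map_smul, res_smul, h1]
  exact ⟨ρ, hρ⟩

/-- The charts. -/
def IsGenChart (I : X.IdealSheafData) (O : X.Opens) : Prop :=
  ∃ (W : X.affineOpens) (u : Γ(X, W.1)), W.1 = O ∧ u ∈ nonZeroDivisors Γ(X, W.1) ∧ I.ideal W = Ideal.span {u}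

theorem isBasisFam_isGenChart (I : X.IdealSheafData) (hI : BlowUp.IsEffCartierIdeal I) :
    Conormal.IsBasisFam {O | IsGenChart I O} := fun O z hz => by
  obtain ⟨W, hzW, hWO, u, hu, hu'⟩ := BlowUpLib.exists_small_generator hI hz
  exact ⟨W.1, ⟨W, u, rfl, hu, hu'⟩, hWO, hzW⟩

/-- The cycles of the Koszul complex of copies of one ideal. -/
theorem nonempty_cycles_iso {n : ℕ} (I : X.IdealSheafData) (hI : BlowUp.IsEffCartierIdeal I)
    (C : KoszSh.Cx (∐ fun _ : Fin n => ClSub.idealMod I) (Limits.Sigma.desc fun _ : Fin n => ClSub.idealModι I))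
    (q : ℕ) (L : X.Modules) (hL : ExtPow.IsExtPow q (FlatMod.freeMod X (n - 1)) L) :
    Nonempty (C.K.cycles q ≅ CohB1.tensorMod L (CohB1.tensorPow (ClSub.idealMod I) q)) := by
  obtain ⟨φL, hφL⟩ := hL
  obtain ⟨ρ, hρ⟩ := exists_extMap (projFree I n) C q φL hφL
  let j₁ : C.K.cycles q ⟶ L := C.K.iCycles q ≫ ρ
  let μ₁ := mulHom L (powι (ClSub.idealModι I) q)
  have hS := isBasisFam_isGenChart I hI
  have key : ∀ O, IsGenChart I O →
      Function.Injective (j₁.app O) ∧ Function.Injective (μ₁.app O) ∧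
        Set.range (j₁.app O) = Set.range (μ₁.app O) := by
    rintro O ⟨W, u, rfl, hu, huI⟩
    obtain ⟨b, bN, σ, e₀, P, s, hPs, hσs, hsP, hφ, hproj, -⟩ := exists_split I n W hu huI
    obtain ⟨e, he, heg⟩ := exists_gen_of_span I W hu huI
    have hu' : u ^ q ∈ nonZeroDivisors Γ(X, W.1) := pow_mem hu q
    have hLinj : Function.Injective fun m : Γ(L, W.1) => u ^ q • m :=
      smul_inj_of_basis ((bN.exteriorPower q).map (φL W).symm) hu'
    have hμ : ∀ m, μ₁.app W.1 (TMul.tm m (TMul.pw e q)) = u ^ q • m := fun m => by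
      have hee : KoszSh.secForm (ClSub.idealModι I) W.1 e = u := he
      rw [mulHom_tm, powι_pw, hee]
    have htm : Function.Bijective fun m : Γ(L, W.1) => TMul.tm m (TMul.pw e q) := by
      have h := TMul.tm_bijective (M := L) (TMul.isGen_pw heg q) W.1 le_rfl
      simpa only [res_self] using h
    obtain ⟨hinj, hsurj⟩ := cycles_equiv σ e₀ P s hPs hσs hsP q
    have hj : ∀ z, j₁.app W.1 z = u ^ q • (φL W).symm (exteriorPower.map q P
        (C.loc q W ((C.K.iCycles q).app W.1 z))) := fun z => by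
      refine (hρ W _).trans ?_
      rw [hproj, map_smul_map, LinearMap.smul_apply, map_smul]
      rfl
    have hcon : ∀ y : ↥(⋀[Γ(X, W.1)]^q Γ(∐ fun _ : Fin n => ClSub.idealMod I, W.1)),
        con (KoszSh.secForm (Limits.Sigma.desc fun _ : Fin n => ClSub.idealModι I) W.1) (y : ExteriorAlgebra _ _) = 0 ↔
          con σ (y : ExteriorAlgebra _ _) = 0 := fun y => by
      have h : con (u • σ) (y : ExteriorAlgebra _ _) = u • con σ (y : ExteriorAlgebra _ _) :=
        LinearMap.congr_fun (map_smul (CliffordAlgebra.contractLeft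
          (Q := (0 : QuadraticForm Γ(X, W.1) Γ(∐ fun _ : Fin n => ClSub.idealMod I, W.1)))) u σ) _
      rw [hφ, h]
      refine ⟨fun h0 => ?_, fun h0 => by rw [h0, smul_zero]⟩
      rcases q with _ | p
      · exact con_degree_zero σ y.2
      · have hw : (⟨_, KosExt.con_mem σ y.2⟩ : ↥(⋀[Γ(X, W.1)]^p _)) = 0 :=
          smul_inj_of_basis (b.exteriorPower p) hu (by
            simp only [smul_zero]
            exact Subtype.ext h0)
        exact congrArg Subtype.val hw
    refine ⟨fun a a' ha => ?_, fun a a' ha => ?_, Set.ext fun t => ⟨?_, ?_⟩⟩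
    · rw [hj, hj] at ha
      have h1 := (φL W).symm.injective (hLinj ha)
      refine app_injective_of_mono (C.K.iCycles q) W.1 ((C.loc q W).injective (sub_eq_zero.1 ?_))
      refine hinj _ ?_ ?_
      · rw [← hcon, ← map_sub, ← map_sub]
        exact (mem_range_iCycles_iff C q W _).1 ⟨_, rfl⟩
      · rw [map_sub, h1, sub_self]
    · obtain ⟨m, rfl⟩ := htm.2 a
      obtain ⟨m', rfl⟩ := htm.2 a'
      rw [hμ, hμ] at ha
      rw [hLinj ha]
    · rintro ⟨z, rfl⟩
      exact ⟨_, (hμ _).trans (hj z).symm⟩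
    · rintro ⟨a, rfl⟩
      obtain ⟨m, rfl⟩ := htm.2 a
      obtain ⟨y, hy, hyP⟩ := hsurj (φL W m)
      obtain ⟨z, hz⟩ := (mem_range_iCycles_iff C q W ((C.loc q W).symm y)).2 (by
        rw [LinearEquiv.apply_symm_apply, hcon]; exact hy)
      refine ⟨z, ?_⟩
      rw [hj, hz, LinearEquiv.apply_symm_apply, hyP, LinearEquiv.symm_apply_apply, hμ]
  haveI : Mono j₁ := Conormal.mono_of_basis j₁ hS fun O hO => (key O hO).1
  haveI : Mono μ₁ := Conormal.mono_of_basis μ₁ hS fun O hO => (key O hO).2.1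
  obtain ⟨e, -⟩ := exists_iso_of_range_eq j₁ μ₁ fun O => by
    have h : ∀ {A B : X.Modules} (i : A ⟶ L) (j : B ⟶ L) [Mono j],
        (∀ V ∈ {O | IsGenChart I O}, Set.range (i.app V) ⊆ Set.range (j.app V)) →
        Set.range (i.app O) ⊆ Set.range (j.app O) := by
      intro A B i j _ hij
      have hz : i ≫ cokernel.π j = 0 := hom_ext_basis hS fun V hV a => by
        obtain ⟨b, hb⟩ := hij V hV ⟨a, rfl⟩
        show (cokernel.π j).app V (i.app V a) = 0
        rw [← hb]
        exact congr(($(cokernel.condition j)).app V b)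
      rintro _ ⟨a, rfl⟩
      exact ⟨(Abelian.monoLift j i hz).app O a, congr(($(Abelian.monoLift_comp j i hz)).app O a)⟩
    exact (h j₁ μ₁ fun V hV => (key V hV).2.2.subset).antisymm (h μ₁ j₁ fun V hV => (key V hV).2.2.superset)
  exact ⟨e⟩

/-- Restriction to a divisor commutes with twisting by an invertible module. -/
theorem nonempty_restr_tensor (ID : X.IdealSheafData) (hD : BlowUp.IsEffCartierIdeal ID) (A N : X.Modules)
    (hA : Coh.IsQCoh A) (hN : PicF.IsInvertible N) :
    Nonempty (CohB1.tensorMod ((Scheme.Modules.pullback ID.subschemeι ⋙ Scheme.Modules.pushforward ID.subschemeι).obj A) N ≅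
      (Scheme.Modules.pullback ID.subschemeι ⋙ Scheme.Modules.pushforward ID.subschemeι).obj (CohB1.tensorMod A N)) := by
  haveI : A.IsQuasicoherent := hA
  have hAN : Coh.IsQCoh (CohB1.tensorMod A N) := TMul.isQCoh_tensor hN
  let F := Scheme.Modules.pullback ID.subschemeι ⋙ Scheme.Modules.pushforward ID.subschemeι
  let uA : A ⟶ F.obj A := (Scheme.Modules.pullbackPushforwardAdjunction ID.subschemeι).unit.app A
  let b : CohB1.tensorMod A N ⟶ F.obj (CohB1.tensorMod A N) :=
    (Scheme.Modules.pullbackPushforwardAdjunction ID.subschemeι).unit.app (CohB1.tensorMod A N)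
  let a := tmap uA N
  let S : Set X.Opens := {O | ∃ (W : X.affineOpens) (e : Γ(N, W.1)) (x : Γ(X, W.1)), W.1 = O ∧ TMul.IsGen e ∧
    ID.ideal W = Ideal.span {x}}
  have hS : Conormal.IsBasisFam S := fun O z hz => by
    obtain ⟨V, e, hzV, he⟩ := TMul.exists_isGen hN z
    obtain ⟨W, hzW, hWO, x, -, hx⟩ := BlowUpLib.exists_small_generator hD (O := O ⊓ V) ⟨hz, hzV⟩
    exact ⟨W.1, ⟨W, res N (hWO.trans inf_le_right) e, x, rfl, he.res _, hx⟩, hWO.trans inf_le_left, hzW⟩
  have htm : ∀ (M : X.Modules) (O : X.Opens) (e : Γ(N, O)), TMul.IsGen e →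
      Function.Bijective fun m : Γ(M, O) => TMul.tm m e := fun M O e he => by
    have h := TMul.tm_bijective (M := M) he O le_rfl
    simpa only [res_self] using h
  haveI : Epi a := Conormal.epi_of_basis a hS fun O hO t => by
    obtain ⟨W, e, x, rfl, he, -⟩ := hO
    obtain ⟨m, rfl⟩ := (htm (F.obj A) W.1 e he).2 t
    obtain ⟨m', rfl⟩ : ∃ m', uA.app W.1 m' = m := unit_app_surjective ID hA W m
    exact ⟨TMul.tm m' e, tmap_tm _ _ _ _⟩
  haveI : Epi b := Conormal.epi_of_basis b hS fun O hO => by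
    obtain ⟨W, e, x, rfl, -, -⟩ := hO
    exact unit_app_surjective ID hAN W
  refine nonempty_iso_of_epi_of_kernel a b hS fun O hO t => ?_
  obtain ⟨W, e, x, rfl, he, hx⟩ := hO
  obtain ⟨m, rfl⟩ := (htm A W.1 e he).2 t
  have hb : b.app W.1 (TMul.tm m e) = 0 ↔ ∃ v, x • v = TMul.tm m e := by
    refine (pullSect_eq_zero_iff ID hAN W _).trans ?_
    rw [hx, Submodule.ideal_span_singleton_smul, Submodule.mem_smul_pointwise_iff_exists]
    simp
  have ha : uA.app W.1 m = 0 ↔ ∃ v, x • v = m := by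
    refine (pullSect_eq_zero_iff ID hA W _).trans ?_
    rw [hx, Submodule.ideal_span_singleton_smul, Submodule.mem_smul_pointwise_iff_exists]
    simp
  rw [hb]
  show (tmap uA N).app W.1 (TMul.tm m e) = 0 ↔ _
  rw [tmap_tm]
  constructor
  · intro h
    obtain ⟨v, rfl⟩ := ha.1 ((htm _ W.1 e he).1 (h.trans (TMul.zero_tm e).symm))
    exact ⟨TMul.tm v e, (TMul.smul_tm x v e).symm⟩
  · rintro ⟨w, hw⟩
    obtain ⟨v, rfl⟩ := (htm A W.1 e he).2 w
    rw [ha.2 ⟨v, (htm A W.1 e he).1 ((TMul.smul_tm x v e).trans hw)⟩, TMul.zero_tm]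

/-- The homology for copies of one divisor is the restriction of the cycles to it. -/
theorem nonempty_homology_restr {n : ℕ} (hn : 1 ≤ n) (ID : X.IdealSheafData) (hD : BlowUp.IsEffCartierIdeal ID)
    (C : KoszSh.Cx (∐ fun _ : Fin n => ClSub.idealMod ID) (Limits.Sigma.desc fun _ : Fin n => ClSub.idealModι ID))
    (q : ℕ) : Nonempty ((Scheme.Modules.pullback ID.subschemeι ⋙ Scheme.Modules.pushforward ID.subschemeι).obj
      (C.K.cycles q) ≅ C.K.homology q) := by
  haveI hE : (∐ fun _ : Fin n => ClSub.idealMod ID).IsQuasicoherent :=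
    isQCoh_sigma _ fun i => isQCoh_idealMod _
  have hK : ∀ p, Coh.IsQCoh (C.K.X p) := fun p =>
    isQCoh_X C n (exists_local_basis (fun _ : Fin n => ID) fun _ => hD) p
  have hS := isBasisFam_isGenChart ID hD
  let F := Scheme.Modules.pullback ID.subschemeι ⋙ Scheme.Modules.pushforward ID.subschemeι
  let a : C.K.cycles q ⟶ F.obj (C.K.cycles q) :=
    (Scheme.Modules.pullbackPushforwardAdjunction ID.subschemeι).unit.app (C.K.cycles q)
  haveI : Epi a := Conormal.epi_of_basis a hS fun O hO => by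
    obtain ⟨W, u, rfl, -, -⟩ := hO
    exact unit_app_surjective ID (isQCoh_cycles C.K hK q) W
  refine nonempty_iso_of_epi_of_kernel a (C.K.homologyπ q) hS fun O hO z => ?_
  obtain ⟨W, u, rfl, hu, huI⟩ := hO
  obtain ⟨b, bN, σ, e₀, P, s, hPs, hσs, hsP, hφ, -, he₀⟩ := exists_split ID n W hu huI
  let φ := KoszSh.secForm (Limits.Sigma.desc fun _ : Fin n => ClSub.idealModι ID) W.1
  have hscal : ∀ y : ExteriorAlgebra Γ(X, W.1) Γ(∐ fun _ : Fin n => ClSub.idealMod ID, W.1),
      con φ y = u • con σ y := fun y => by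
    show con (KoszSh.secForm _ W.1) y = _
    rw [hφ]
    exact LinearMap.congr_fun (map_smul (CliffordAlgebra.contractLeft
      (Q := (0 : QuadraticForm Γ(X, W.1) Γ(∐ fun _ : Fin n => ClSub.idealMod ID, W.1)))) u σ) _
  have ha : a.app W.1 z = 0 ↔ ∃ v, u • v = z := by
    refine (pullSect_eq_zero_iff ID (isQCoh_cycles C.K hK q) W z).trans ?_
    rw [huI, Submodule.ideal_span_singleton_smul, Submodule.mem_smul_pointwise_iff_exists]
    simp
  have hd : ∀ w : Γ(C.K.X (q + 1), W.1),
      ((C.loc q W ((C.K.iCycles q).app W.1 ((C.K.toCycles (q + 1) q).app W.1 w))) : ExteriorAlgebra _ _) =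
        u • con σ (C.loc (q + 1) W w : ExteriorAlgebra Γ(X, W.1) _) := fun w => by
    rw [← hscal, ← rule_eq_con φ q (KosExt.dLin C q W) (KosExt.dLin_ιMulti C q W)]
    refine congrArg Subtype.val (congrArg (C.loc q W) ?_)
    show _ = (C.K.d (q + 1) q).app W.1 ((C.loc (q + 1) W).symm (C.loc (q + 1) W w))
    rw [LinearEquiv.symm_apply_apply]
    exact congr(($(C.K.toCycles_i (q + 1) q)).app W.1 w)
  have hcycσ : ∀ v : Γ(C.K.cycles q, W.1),
      con σ (C.loc q W ((C.K.iCycles q).app W.1 v) : ExteriorAlgebra Γ(X, W.1) _) = 0 := fun v => by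
    have h := (mem_range_iCycles_iff C q W _).1 ⟨v, rfl⟩
    rw [hscal] at h
    rcases q with _ | p
    · exact con_degree_zero σ (C.loc 0 W _).2
    · refine congrArg Subtype.val (show (⟨_, KosExt.con_mem σ (C.loc (p + 1) W
          ((C.K.iCycles (p + 1)).app W.1 v)).2⟩ : ↥(⋀[Γ(X, W.1)]^p _)) = 0 from
        smul_inj_of_basis (b.exteriorPower p) hu ?_)
      simp only [smul_zero]
      exact Subtype.ext h
  rw [ha]
  constructor
  · rintro ⟨v, rfl⟩
    let y := C.loc q W ((C.K.iCycles q).app W.1 v)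
    let w₁ : ↥(⋀[Γ(X, W.1)]^(q + 1) Γ(∐ fun _ : Fin n => ClSub.idealMod ID, W.1)) :=
      ⟨ExteriorAlgebra.ι Γ(X, W.1) e₀ * (y : ExteriorAlgebra Γ(X, W.1) _), by
        show _ ∈ LinearMap.range (ExteriorAlgebra.ι Γ(X, W.1)) ^ (q + 1)
        rw [pow_succ']
        exact Submodule.mul_mem_mul ⟨e₀, rfl⟩ y.2⟩
    have h : (C.K.toCycles (q + 1) q).app W.1 ((C.loc (q + 1) W).symm w₁) = u • v := by
      refine app_injective_of_mono (C.K.iCycles q) W.1 ((C.loc q W).injective (Subtype.ext ?_))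
      rw [hd, LinearEquiv.apply_symm_apply, Scheme.Modules.Hom.app_smul, map_smul]
      show u • con σ (ExteriorAlgebra.ι Γ(X, W.1) e₀ * (y : ExteriorAlgebra Γ(X, W.1) _)) = _
      rw [KosExt.con_ι_mul, he₀ hn, one_smul, hcycσ v, mul_zero, sub_zero]
      rfl
    rw [← h]
    exact congr(($(C.K.toCycles_comp_homologyπ (q + 1) q)).app W.1 ((C.loc (q + 1) W).symm w₁))
  · intro h
    obtain ⟨w, rfl⟩ := (homologyπ_app C.K hK q W).2 z h
    let y : ↥(⋀[Γ(X, W.1)]^q Γ(∐ fun _ : Fin n => ClSub.idealMod ID, W.1)) :=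
      ⟨con σ (C.loc (q + 1) W w : ExteriorAlgebra Γ(X, W.1) _), KosExt.con_mem σ (C.loc (q + 1) W w).2⟩
    obtain ⟨v, hv⟩ := (mem_range_iCycles_iff C q W ((C.loc q W).symm y)).2 (by
      rw [LinearEquiv.apply_symm_apply, hscal]
      show u • con σ (con σ _) = 0
      rw [KosExt.con, CliffordAlgebra.contractLeft_contractLeft, smul_zero])
    refine ⟨v, app_injective_of_mono (C.K.iCycles q) W.1 ((C.loc q W).injective (Subtype.ext ?_))⟩
    rw [Scheme.Modules.Hom.app_smul, map_smul, hv, LinearEquiv.apply_symm_apply, hd]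
    rfl

end Groth.Agent.KosTwist
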