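import Groth.Agent.KosTwist.Main
import Groth.Agent.KosTwist.Regular
import Groth.Agent.CMFlat.RegImm
import Groth.Agent.CMFlat.Localization
import Groth.Agent.SmLocalST.SmoothField
import Groth.Prelude.Def_RegImm

/-!
The equation of a divisor avoiding the components of a local complete intersection is regular on the
Koszul homology.
-/

universe u

open CategoryTheory CategoryTheory.Limits AlgebraicGeometry TopologicalSpace Opposite

set_option autoImplicit false
set_option backward.isDefEq.respectTransparency false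
set_option backward.isDefEq.respectTransparency.types false
set_option linter.style.haveILetI false

noncomputable section

namespace Groth.Agent.KosTwist

open Groth.Agent.QC

variable {X : Scheme.{u}}

/-- Near every point an ideal with regular closed subscheme is generated by a weakly regular sequence. -/
theorem exists_weaklyRegular_chart (I : X.IdealSheafData)
    (hI : RegImm.IsRegularImmersion RegImm.Kind.regular I.subschemeι) {O : X.Opens} {z : X} (hz : z ∈ O) :
    ∃ U : X.affineOpens, z ∈ U.1 ∧ U.1 ≤ O ∧ ∀ W : X.affineOpens, W.1 ≤ U.1 →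
      ∃ (c : ℕ) (g : Fin c → Γ(X, W.1)), RingTheory.Sequence.IsWeaklyRegular Γ(X, W.1) (List.ofFn g) ∧
        I.ideal W = Ideal.span (Set.range g) := by
  by_cases hs : z ∈ (I.support : Set X)
  · obtain ⟨y, rfl⟩ : z ∈ Set.range I.subschemeι.base := I.range_subschemeι.ge hs
    obtain ⟨U₀, hy, -, rs, hrs, hker⟩ := hI.2 y
    obtain ⟨U, hzU, hU⟩ := KosExt.exists_affine_le (O := U₀.1 ⊓ O) (x := I.subschemeι y) ⟨hy, hz⟩
    refine ⟨U, hzU, hU.trans inf_le_right, fun W hW => ?_⟩
    have hle : W.1 ≤ U₀.1 := hW.trans (hU.trans inf_le_left)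
    letI := (X.presheaf.map (homOfLE hle).op).hom.toAlgebra
    haveI : Module.Flat Γ(X, U₀.1) Γ(X, W.1) := BlowUpLib.flat_res U₀.2 W.2 hle
    refine ⟨rs.length, fun i => resO X hle (rs.get i), ?_, ?_⟩
    · have h := RingTheory.Sequence.IsWeaklyRegular.of_flat (S := Γ(X, W.1)) hrs.toIsWeaklyRegular
      rw [← List.ofFn_get rs, List.map_ofFn] at h
      exact h
    · have h0 : I.ideal U₀ = Ideal.span (Set.range rs.get) := by
        rw [← I.ker_subschemeι_app U₀, hker, Ideal.ofList]
        congr 1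
        exact (Set.range_list_get rs).symm
      rw [← I.map_ideal (show W ≤ U₀ from hle), h0, Ideal.map_span, ← Set.range_comp]
      rfl
  · obtain ⟨U₀, hzU₀, hU₀⟩ := KosExt.exists_affine_le hz
    have h0 : z ∉ X.zeroLocus (U := U₀.1) (I.ideal U₀) := fun h =>
      hs ((Set.ext_iff.1 (I.coe_support_inter U₀) z).2 ⟨h, hzU₀⟩).1
    rw [Scheme.mem_zeroLocus_iff] at h0
    push Not at h0
    obtain ⟨a, ha, hza⟩ := h0
    refine ⟨X.affineBasicOpen a, hza, (X.basicOpen_le a).trans hU₀, fun W hW => ⟨1, fun _ => 1, ?_, ?_⟩⟩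
    · have h : List.ofFn (fun _ : Fin 1 => (1 : Γ(X, W.1))) = [1] := rfl
      rw [h, RingTheory.Sequence.isWeaklyRegular_singleton_iff]
      exact fun a b hab => by simpa using hab
    · rw [Set.range_const, Ideal.span_singleton_one, Ideal.eq_top_iff_one]
      have hu : IsUnit (resO X (hW.trans (X.basicOpen_le a)) a) := by
        rw [← resO_resO hW (X.basicOpen_le a)]
        exact (RingedSpace.isUnit_res_basicOpen X.toRingedSpace a).map _
      have hmem : resO X (hW.trans (X.basicOpen_le a)) a ∈ I.ideal W := by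
        rw [← I.map_ideal (show W ≤ U₀ from hW.trans (X.basicOpen_le a))]
        exact Ideal.mem_map_of_mem _ ha
      exact (Ideal.eq_top_iff_one _).1 (Ideal.eq_top_of_isUnit_mem _ hmem hu)

/-- The equation of `D` is regular modulo the ideal of `Z`. -/
theorem mem_of_mul_mem {k : Type u} [Field k] (f : X ⟶ Spec (CommRingCat.of k)) [Smooth f]
    (I ID : X.IdealSheafData) (hI : RegImm.IsRegularImmersion RegImm.Kind.regular I.subschemeι)
    (hZD : ∀ z : ↥I.subscheme, ringKrullDim (I.subscheme.presheaf.stalk z) = 0 →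
      I.subschemeι.base z ∉ Set.range ID.subschemeι.base)
    (W : X.affineOpens) {x : Γ(X, W.1)} (hx : ID.ideal W = Ideal.span {x}) {r : Γ(X, W.1)}
    (hr : x * r ∈ I.ideal W) : r ∈ I.ideal W := by
  haveI : IsLocallyNoetherian X := LocallyOfFiniteType.isLocallyNoetherian f
  haveI : IsLocallyNoetherian I.subscheme := LocallyOfFiniteType.isLocallyNoetherian I.subschemeι
  let V : I.subscheme.Opens := I.subschemeι ⁻¹ᵁ W.1
  have hV : IsAffineOpen V := W.2.preimage _
  haveI : IsNoetherianRing Γ(I.subscheme, V) := IsLocallyNoetherian.component_noetherian ⟨V, hV⟩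
  rw [← I.ker_subschemeι_app W, RingHom.mem_ker] at hr ⊢
  let x' : Γ(I.subscheme, V) := I.subschemeι.app W.1 x
  suffices h : IsSMulRegular Γ(I.subscheme, V) x' from h.right_eq_zero_of_smul (by
    rw [smul_eq_mul]; exact (map_mul _ _ _).symm.trans hr)
  by_contra hreg
  have hmem : x' ∈ ⋃ p ∈ associatedPrimes Γ(I.subscheme, V) Γ(I.subscheme, V), (p : Set Γ(I.subscheme, V)) := by
    rw [biUnion_associatedPrimes_eq_compl_regular]
    exact hreg
  obtain ⟨p, hp, hxp⟩ := Set.mem_iUnion₂.1 hmem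
  haveI hpp : p.IsPrime := IsAssociatedPrime.isPrime hp
  let z := hV.fromSpec.base ⟨p, hpp⟩
  have hzV : z ∈ V := hV.range_fromSpec.le ⟨_, rfl⟩
  have hpz : hV.primeIdealOf ⟨z, hzV⟩ = ⟨p, hpp⟩ :=
    hV.fromSpec.isOpenEmbedding.injective (hV.fromSpec_primeIdealOf ⟨z, hzV⟩)
  let T := I.subscheme.presheaf.stalk z
  letI : Algebra Γ(I.subscheme, V) T := (I.subscheme.presheaf.germ V z hzV).hom.toAlgebra
  haveI hloc : IsLocalization.AtPrime T p := by
    have h := hV.isLocalization_stalk ⟨z, hzV⟩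
    rw [hpz] at h
    exact h
  haveI : LocCoh.IsCohenMacaulayLocalRing T := CMFlat.isCohenMacaulay_stalk_of_regularImmersion _ hI z (by
    haveI := SmLocalST.isRegularLocalRing_stalk_of_smooth_field f (I.subschemeι z)
    exact CMFlat.isCohenMacaulayLocalRing_of_isRegularLocalRing _)
  haveI : IsLocalizedModule p.primeCompl (Algebra.linearMap Γ(I.subscheme, V) T) :=
    (isLocalizedModule_iff_isLocalization' p.primeCompl T).mpr hloc
  have hass : IsLocalRing.maximalIdeal T ∈ associatedPrimes T T := by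
    refine Module.associatedPrimes.mem_associatedPrimes_of_comap_mem_associatedPrimes_of_isLocalizedModule
      p.primeCompl (Algebra.linearMap Γ(I.subscheme, V) T) _ ?_
    show (IsLocalRing.maximalIdeal T).under Γ(I.subscheme, V) ∈ _
    rw [IsLocalization.AtPrime.under_maximalIdeal T p]
    exact hp
  have hdim : ringKrullDim T = 0 := by
    rw [← IsLocalRing.maximalIdeal_height_eq_ringKrullDim,
      Ideal.height_eq_zero_iff.2 (CMFlat.associatedPrimes_subset_minimalPrimes T hass)]
    rfl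
  refine hZD z hdim ?_
  rw [ID.range_subschemeι]
  refine ((Set.ext_iff.1 (ID.coe_support_inter W) _).2 ⟨?_, hzV⟩).1
  rw [Scheme.mem_zeroLocus_iff]
  intro a ha hza
  rw [hx] at ha
  obtain ⟨c, rfl⟩ := Ideal.mem_span_singleton'.1 ha
  rw [Scheme.basicOpen_mul] at hza
  have h2 : z ∈ I.subscheme.basicOpen x' := by
    rw [← Scheme.preimage_basicOpen]
    exact hza.2
  have h3 : (⟨p, hpp⟩ : PrimeSpectrum _) ∈ hV.fromSpec ⁻¹ᵁ I.subscheme.basicOpen x' := h2
  rw [hV.fromSpec_preimage_basicOpen] at h3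
  exact h3 hxp

/-- The equation of `D` is regular on the Koszul homology. -/
theorem isSMulRegular_homology {k : Type u} [Field k] (f : X ⟶ Spec (CommRingCat.of k)) [Smooth f]
    {n : ℕ} (IY : Fin n → X.IdealSheafData) (hY : ∀ i, BlowUp.IsEffCartierIdeal (IY i))
    (ID : X.IdealSheafData)
    (hZ : RegImm.IsRegularImmersion RegImm.Kind.regular (⨆ i, IY i).subschemeι)
    (hZD : ∀ z : ↥(⨆ i, IY i).subscheme, ringKrullDim ((⨆ i, IY i).subscheme.presheaf.stalk z) = 0 →
      (⨆ i, IY i).subschemeι.base z ∉ Set.range ID.subschemeι.base)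
    (C : KoszSh.Cx (∐ fun i => ClSub.idealMod (IY i)) (Limits.Sigma.desc fun i => ClSub.idealModι (IY i)))
    (q : ℕ) (U : X.affineOpens) (x : Γ(X, U.1)) (hxU : ID.ideal U = Ideal.span {x}) :
    IsSMulRegular Γ(C.K.homology q, U.1) x := by
  haveI hE : (∐ fun i => ClSub.idealMod (IY i)).IsQuasicoherent :=
    isQCoh_sigma _ fun i => isQCoh_idealMod _
  have hK : ∀ p, Coh.IsQCoh (C.K.X p) := fun p => isQCoh_X C n (exists_local_basis IY hY) p
  suffices h : ∀ (s : Γ(C.K.homology q, U.1)), x • s = 0 → s = 0 from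
    fun a b hab => sub_eq_zero.1 (h _ (by rw [smul_sub]; exact sub_eq_zero.2 hab))
  intro s hs
  refine section_eq_of_locally fun z hz => ?_
  obtain ⟨U₀, hzU₀, hU₀U, hU₀⟩ := exists_weaklyRegular_chart (⨆ i, IY i) hZ hz
  obtain ⟨W, hzW, hWU₀, u, hu⟩ := exists_chart IY hY hzU₀
  have hWU : W.1 ≤ U.1 := hWU₀.trans hU₀U
  refine ⟨W.1, hWU, hzW, ?_⟩
  rw [map_zero]
  let x' := resO X hWU x
  have hx' : ID.ideal W = Ideal.span {x'} := by
    rw [← ID.map_ideal (show W ≤ U from hWU), hxU, Ideal.map_span, Set.image_singleton]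
    rfl
  obtain ⟨c, g, hg, hgI⟩ := hU₀ W hWU₀
  choose e he heg using fun i => exists_gen_of_span (IY i) W (hu i).1 (hu i).2
  obtain ⟨b, hb⟩ := exists_basis_sigma (fun i => ClSub.idealMod (IY i)) e heg
  let φ := KoszSh.secForm (Limits.Sigma.desc fun i => ClSub.idealModι (IY i)) W.1
  have hφb : ∀ i, φ (b i) = u i := fun i => by
    rw [hb, ← he i]
    exact congr(($(Sigma.ι_desc (fun i => ClSub.idealModι (IY i)) i)).app W.1 (e i))
  have hspan : Ideal.span (Set.range u) = Ideal.span (Set.range g) := by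
    rw [← hgI, Scheme.IdealSheafData.ideal_iSup, iSup_apply, Ideal.span, Submodule.span_range_eq_iSup]
    exact iSup_congr fun i => (hu i).2.symm
  have hC : CReg φ x' := by
    rw [← xReg_iff_cReg b, show (fun i => φ (b i)) = u from funext hφb]
    refine xReg_of_span u g x' hg hspan fun r hr => ?_
    rw [← hgI] at hr ⊢
    exact mem_of_mul_mem f _ ID hZ hZD W hx' hr
  obtain ⟨hsurj, hexact⟩ := homologyπ_app C.K hK q W
  obtain ⟨zc, hzc⟩ := hsurj (res (C.K.homology q) hWU s)
  have h0 : (C.K.homologyπ q).app W.1 (x' • zc) = 0 := by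
    rw [Scheme.Modules.Hom.app_smul, hzc, ← res_smul, hs, map_zero]
  obtain ⟨w₀, hw₀⟩ := hexact _ h0
  let ζ : ↥(⋀[Γ(X, W.1)]^q Γ(∐ fun i => ClSub.idealMod (IY i), W.1)) :=
    C.loc q W ((C.K.iCycles q).app W.1 zc)
  have hζ : KosExt.con φ (ζ : ExteriorAlgebra Γ(X, W.1) _) = 0 := by
    rcases q with _ | p
    · exact con_degree_zero φ ζ.2
    · rw [← rule_eq_con φ p (KosExt.dLin C p W) (KosExt.dLin_ιMulti C p W)]
      have h1 := (mem_range_iCycles C.K (p + 1) p (by simp) W.1 _).1 ⟨zc, rfl⟩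
      have h2 : KosExt.dLin C p W (C.loc (p + 1) W ((C.K.iCycles (p + 1)).app W.1 zc)) = 0 := by
        show C.loc p W ((C.K.d (p + 1) p).app W.1 ((C.loc (p + 1) W).symm _)) = 0
        rw [LinearEquiv.symm_apply_apply, h1, map_zero]
      rw [h2]
      rfl
  have hw : KosExt.dLin C q W (C.loc (q + 1) W w₀) = x' • ζ := by
    show C.loc q W ((C.K.d (q + 1) q).app W.1 ((C.loc (q + 1) W).symm (C.loc (q + 1) W w₀))) = _
    rw [LinearEquiv.symm_apply_apply, ← map_smul, ← Scheme.Modules.Hom.app_smul, ← hw₀]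
    exact congrArg (C.loc q W) (congr(($(C.K.toCycles_i (q + 1) q)).app W.1 w₀)).symm
  obtain ⟨v, hv⟩ := exists_of_rule hC q (KosExt.dLin C q W) (KosExt.dLin_ιMulti C q W) ζ hζ _ hw
  have hzv : zc = (C.K.toCycles (q + 1) q).app W.1 ((C.loc (q + 1) W).symm v) := by
    refine app_injective_of_mono (C.K.iCycles q) W.1 ((C.loc q W).injective ?_)
    refine hv.symm.trans ?_
    exact congrArg (C.loc q W) (congr(($(C.K.toCycles_i (q + 1) q)).app W.1 ((C.loc (q + 1) W).symm v))).symm
  rw [← hzc, hzv]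
  exact congr(($(C.K.toCycles_comp_homologyπ (q + 1) q)).app W.1 ((C.loc (q + 1) W).symm v))

end Groth.Agent.KosTwist
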