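import Groth.Agent.KosTwist.Tools
import Groth.Agent.PBundle.TopPower
import Groth.Agent.BlowUpLib.Cartier

/-!
Koszul complexes of sums of invertible ideals: local bases, quasi-coherence, the effect of twisting by
an effective divisor.
-/

universe u

open CategoryTheory CategoryTheory.Limits AlgebraicGeometry TopologicalSpace Opposite

set_option autoImplicit false
set_option backward.isDefEq.respectTransparency false
set_option backward.isDefEq.respectTransparency.types false
set_option linter.style.haveILetI false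

noncomputable section

namespace Groth.Agent.KosTwist

open Groth.Agent.QC

variable {X : Scheme.{u}}

/-- A generator of the module of a principal ideal. -/
theorem exists_gen_of_span (I : X.IdealSheafData) (W : X.affineOpens) {u : Γ(X, W.1)}
    (hu : u ∈ nonZeroDivisors Γ(X, W.1)) (hI : I.ideal W = Ideal.span {u}) :
    ∃ e : Γ(ClSub.idealMod I, W.1),
      (show Γ(X, W.1) from (ClSub.idealModι I).app W.1 e) = u ∧ TMul.IsGen e := by
  obtain ⟨e, he⟩ := (mem_range_idealModι_affine I W u).2 (hI ▸ Ideal.mem_span_singleton_self u)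
  refine ⟨e, he, PBundle.isGen_of_affine fun V hV hVW => ?_⟩
  let r : Γ(X, V) := resO X hVW u
  have hι : ∀ c : Γ(X, V),
      (show Γ(X, V) from (ClSub.idealModι I).app V (c • res _ hVW e)) = c * r := fun c => by
    rw [Scheme.Modules.Hom.app_smul, ← app_res, he]
    rfl
  have hr : r ∈ nonZeroDivisors Γ(X, V) :=
    BlowUpLib.mem_nonZeroDivisors_map_of_flat _ (BlowUpLib.flat_res W.2 hV hVW) hu
  have hIV : I.ideal ⟨V, hV⟩ = Ideal.span {r} := by
    rw [← I.map_ideal (show (⟨V, hV⟩ : X.affineOpens) ≤ W from hVW), hI, Ideal.map_span,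
      Set.image_singleton]
    rfl
  refine ⟨fun c d hcd => (mul_cancel_right_mem_nonZeroDivisors hr).1
    ((hι c).symm.trans ((congrArg _ hcd).trans (hι d))), fun t => ?_⟩
  have ht := (mem_range_idealModι_affine I ⟨V, hV⟩ _).1 ⟨t, rfl⟩
  rw [hIV, Ideal.mem_span_singleton'] at ht
  obtain ⟨c, hc⟩ := ht
  exact ⟨c, app_injective_of_mono (ClSub.idealModι I) V ((hι c).trans hc)⟩

/-- Generators of the summands form a basis of the sections of a finite sum. -/
theorem exists_basis_sigma {n : ℕ} (M : Fin n → X.Modules) {W : X.Opens}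
    (e : ∀ i, Γ(M i, W)) (he : ∀ i, TMul.IsGen (e i)) :
    ∃ b : Module.Basis (Fin n) Γ(X, W) Γ(∐ M, W), ∀ i, b i = (Sigma.ι M i).app W (e i) := by
  classical
  let v : Fin n → Γ(∐ M, W) := fun i => (Sigma.ι M i).app W (e i)
  let L : (Fin n → Γ(X, W)) →ₗ[Γ(X, W)] Γ(∐ M, W) := Fintype.linearCombination Γ(X, W) v
  have hb : Function.Bijective L := by
    have h1 : Function.Bijective fun (c : Fin n → Γ(X, W)) i => c i • e i := by
      refine ⟨fun c d h => funext fun i => ((he i) W le_rfl).1 ?_, fun t => ?_⟩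
      · simp only [res_self]
        exact congrFun h i
      · choose c hc using fun i => ((he i) W le_rfl).2 (t i)
        simp only [res_self] at hc
        exact ⟨c, funext hc⟩
    have h2 : (⇑L) = (fun c : ∀ i, Γ(M i, W) => ∑ i, (Sigma.ι M i).app W (c i)) ∘
        fun (c : Fin n → Γ(X, W)) i => c i • e i := by
      funext c
      simp only [L, Fintype.linearCombination_apply, Function.comp_apply, v, Scheme.Modules.Hom.app_smul]
    rw [h2]
    exact (sigma_sections_bijective M W).comp h1
  refine ⟨Module.Basis.ofEquivFun (LinearEquiv.ofBijective L hb).symm, fun i => ?_⟩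
  rw [Module.Basis.coe_ofEquivFun, LinearEquiv.symm_symm]
  show L (Pi.single i 1) = v i
  rw [Fintype.linearCombination_apply_single, one_smul]

/-- Bases restricting to bases on basic opens give localisations. -/
theorem isLoc_of_basis {κ : Type*} [Fintype κ] (M : X.Modules) {U : X.Opens} (hU : IsAffineOpen U)
    (B : Module.Basis κ Γ(X, U) Γ(M, U))
    (hB : ∀ f : Γ(X, U), ∃ B' : Module.Basis κ Γ(X, X.basicOpen f) Γ(M, X.basicOpen f),
      ∀ m, B' m = res M (X.basicOpen_le f) (B m)) : IsLoc M U := by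
  classical
  refine ⟨fun f t => ?_, fun f s hs => ?_⟩
  · obtain ⟨B', hB'⟩ := hB f
    letI := (X.presheaf.map (homOfLE (X.basicOpen_le f)).op).hom.toAlgebra
    haveI : IsLocalization.Away f Γ(X, X.basicOpen f) := hU.isLocalization_basicOpen f
    obtain ⟨⟨s, k, rfl⟩, hint⟩ :=
      IsLocalization.exist_integer_multiples_of_finite (Submonoid.powers f) fun m => B'.repr t m
    choose a ha using hint
    refine ⟨k, ∑ m, a m • B m, ?_⟩
    rw [map_sum]
    conv_rhs => rw [← B'.sum_repr t, Finset.smul_sum]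
    refine Finset.sum_congr rfl fun m _ => ?_
    rw [res_smul, ← hB', smul_smul]
    congr 1
    refine (ha m).trans ?_
    rw [Algebra.smul_def]
    exact congrArg (· * _) (map_pow _ _ _)
  · obtain ⟨B', hB'⟩ := hB f
    letI := (X.presheaf.map (homOfLE (X.basicOpen_le f)).op).hom.toAlgebra
    haveI : IsLocalization.Away f Γ(X, X.basicOpen f) := hU.isLocalization_basicOpen f
    rw [← B.sum_repr s, map_sum] at hs
    simp only [res_smul, ← hB'] at hs
    have h0 : ∀ m, ∃ k : ℕ, f ^ k * B.repr s m = 0 := fun m => by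
      have h1 := Fintype.linearIndependent_iff.mp B'.linearIndependent _ hs m
      obtain ⟨⟨_, k, rfl⟩, hk⟩ := (IsLocalization.map_eq_zero_iff (Submonoid.powers f) _ _).1
        (show algebraMap Γ(X, U) Γ(X, X.basicOpen f) (B.repr s m) = 0 from h1)
      exact ⟨k, hk⟩
    choose k hk using h0
    refine ⟨Finset.univ.sup k, ?_⟩
    rw [← B.sum_repr s, Finset.smul_sum]
    refine Finset.sum_eq_zero fun m _ => ?_
    obtain ⟨l, hl⟩ := Nat.exists_eq_add_of_le (Finset.le_sup (f := k) (Finset.mem_univ m))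
    rw [smul_smul, hl, pow_add, mul_comm (f ^ k m), mul_assoc, hk, mul_zero, zero_smul]

/-- The terms of a Koszul complex of a module with local bases are quasi-coherent. -/
theorem isQCoh_X {E : X.Modules} [E.IsQuasicoherent] {s : E ⟶ Coh.structureModule X} (C : KoszSh.Cx E s)
    (n : ℕ) (hloc : ∀ z : X, ∃ W : X.affineOpens, z ∈ W.1 ∧
      Nonempty (Module.Basis (Fin n) Γ(X, W.1) Γ(E, W.1))) (p : ℕ) : Coh.IsQCoh (C.K.X p) := by
  refine isQCoh_of_isLoc fun z => ?_
  obtain ⟨W, hzW, ⟨b⟩⟩ := hloc z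
  refine ⟨W.1, W.2, hzW, isLoc_of_basis _ W.2 ((b.exteriorPower p).map (C.loc p W).symm) fun f => ?_⟩
  obtain ⟨b', hb'⟩ := KosExt.exists_basis_res E W.2 b f
  refine ⟨(b'.exteriorPower p).map (C.loc p ⟨X.basicOpen f, W.2.basicOpen f⟩).symm, fun S => ?_⟩
  rw [Module.Basis.map_apply, Module.Basis.map_apply, exteriorPower.basis_apply, exteriorPower.basis_apply]
  refine Eq.trans ?_ (C.loc_res p W ⟨X.basicOpen f, W.2.basicOpen f⟩ (X.basicOpen_le f) _).symm
  exact congrArg _ (congrArg _ (funext fun j => hb' _))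

/-- The inclusion of the module of a product ideal. -/
theorem exists_inc (I J : X.IdealSheafData) : ∃ g : ClSub.idealMod (I * J) ⟶ ClSub.idealMod I,
    g ≫ ClSub.idealModι I = ClSub.idealModι (I * J) := by
  have h : ClSub.idealModι (I * J) ≫ ClSub.toSubscheme I = 0 := by
    refine KosExt.hom_ext_affine fun U t => ?_
    let r : Γ(X, U.1) := (ClSub.idealModι (I * J)).app U.1 t
    have ht : r ∈ (I * J).ideal U := (mem_range_idealModι_affine (I * J) U r).1 ⟨t, rfl⟩
    rw [Scheme.IdealSheafData.ideal_mul, Pi.mul_apply] at ht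
    have hI : r ∈ I.ideal U := (Ideal.mul_le_inf ht).1
    rw [← I.ker_subschemeι_app U, RingHom.mem_ker] at hI
    rw [Scheme.Modules.Hom.comp_app, ConcreteCategory.comp_apply]
    refine Eq.trans (unitToPush_app I.subschemeι U.1 r) ?_
    rw [hI]
    rfl
  exact ⟨kernel.lift (ClSub.toSubscheme I) (ClSub.idealModι (I * J)) h,
    kernel.lift_ι (ClSub.toSubscheme I) (ClSub.idealModι (I * J)) h⟩

/-- Around every point all the ideals are principal, generated by nonzerodivisors, on small affine opens. -/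
theorem exists_chart {n : ℕ} (I : Fin n → X.IdealSheafData) (hI : ∀ i, BlowUp.IsEffCartierIdeal (I i))
    {O : X.Opens} {z : X} (hz : z ∈ O) :
    ∃ W : X.affineOpens, z ∈ W.1 ∧ W.1 ≤ O ∧ ∃ u : Fin n → Γ(X, W.1),
      ∀ i, u i ∈ nonZeroDivisors Γ(X, W.1) ∧ (I i).ideal W = Ideal.span {u i} := by
  induction n with
  | zero =>
    obtain ⟨W, hW, hle⟩ := KosExt.exists_affine_le hz
    exact ⟨W, hW, hle, fun i => i.elim0, fun i => i.elim0⟩
  | succ n ih =>
    obtain ⟨W, hzW, hWO, u, hu⟩ := ih (fun i => I i.succ) (fun i => hI i.succ)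
    obtain ⟨V, hzV, hVW, g, hg, hg'⟩ := BlowUpLib.exists_small_generator (hI 0) hzW
    choose v hv hv' using fun i =>
      BlowUpLib.exists_generator_of_le (I (Fin.succ i)) (show V ≤ W from hVW) (hu i).1 (hu i).2
    refine ⟨V, hzV, hVW.trans hWO, Fin.cons g v, Fin.cases ?_ fun i => ?_⟩
    · exact ⟨hg, hg'⟩
    · exact ⟨hv i, hv' i⟩

section Twist

variable {n : ℕ} (IY : Fin n → X.IdealSheafData) (ID : X.IdealSheafData)

variable (f : (∐ fun i => ClSub.idealMod (IY i * ID)) ⟶ (∐ fun i => ClSub.idealMod (IY i)))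
  (g : ∀ i, ClSub.idealMod (IY i * ID) ⟶ ClSub.idealMod (IY i))
  (hg : ∀ i, g i ≫ ClSub.idealModι (IY i) = ClSub.idealModι (IY i * ID))
  (hfg : ∀ i, Sigma.ι (fun i => ClSub.idealMod (IY i * ID)) i ≫ f =
    g i ≫ Sigma.ι (fun i => ClSub.idealMod (IY i)) i)

include hg hfg in
/-- Over a chart `f` is the multiplication by the equation of `D` followed by an identification. -/
theorem exists_equiv (W : X.affineOpens) {x : Γ(X, W.1)} (hx : x ∈ nonZeroDivisors Γ(X, W.1))
    (hxI : ID.ideal W = Ideal.span {x}) {u : Fin n → Γ(X, W.1)}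
    (hu : ∀ i, u i ∈ nonZeroDivisors Γ(X, W.1) ∧ (IY i).ideal W = Ideal.span {u i}) :
    ∃ (_ : Module.Basis (Fin n) Γ(X, W.1) Γ(∐ fun i => ClSub.idealMod (IY i), W.1))
      (G : Γ(∐ fun i => ClSub.idealMod (IY i * ID), W.1) ≃ₗ[Γ(X, W.1)] Γ(∐ fun i => ClSub.idealMod (IY i), W.1)),
      ∀ t, f.app W.1 t = x • G t := by
  choose e he heg using fun i => exists_gen_of_span (IY i) W (hu i).1 (hu i).2
  choose e' he' heg' using fun i => exists_gen_of_span (IY i * ID) W (u := u i * x) (mul_mem (hu i).1 hx)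
    (by rw [Scheme.IdealSheafData.ideal_mul, Pi.mul_apply, (hu i).2, hxI,
      Ideal.span_singleton_mul_span_singleton])
  obtain ⟨b, hb⟩ := exists_basis_sigma (fun i => ClSub.idealMod (IY i)) e heg
  obtain ⟨b', hb'⟩ := exists_basis_sigma (fun i => ClSub.idealMod (IY i * ID)) e' heg'
  refine ⟨b, b'.equiv b (Equiv.refl _), fun t => ?_⟩
  have : appₗ f W.1 = x • (b'.equiv b (Equiv.refl _)).toLinearMap := by
    refine b'.ext fun i => ?_
    show f.app W.1 (b' i) = x • (b'.equiv b (Equiv.refl _)) (b' i)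
    rw [Module.Basis.equiv_apply, Equiv.refl_apply, hb, hb']
    refine (congr(($(hfg i)).app W.1 (e' i))).trans ?_
    rw [← Scheme.Modules.Hom.app_smul]
    refine congrArg ((Sigma.ι (fun i => ClSub.idealMod (IY i)) i).app W.1) ?_
    refine app_injective_of_mono (ClSub.idealModι (IY i)) W.1 ?_
    refine Eq.trans (congr(($(hg i)).app W.1 (e' i))) ?_
    rw [Scheme.Modules.Hom.app_smul]
    refine (he' i).trans ?_
    show u i * x = x * (show Γ(X, W.1) from (ClSub.idealModι (IY i)).app W.1 (e i))
    rw [he, mul_comm]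
  exact LinearMap.congr_fun this t

end Twist

/-- The map on exterior powers induced by a scalar multiple of a map. -/
theorem map_smul_map {R : Type*} [CommRing R] {M N : Type*} [AddCommGroup M] [Module R M]
    [AddCommGroup N] [Module R N] (x : R) (G : M →ₗ[R] N) (p : ℕ) :
    exteriorPower.map p (x • G) = x ^ p • exteriorPower.map p G := by
  refine exteriorPower.linearMap_ext (AlternatingMap.ext fun v => ?_)
  simp only [LinearMap.compAlternatingMap_apply, LinearMap.smul_apply, exteriorPower.map_apply_ιMulti]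
  have h := (exteriorPower.ιMulti R p (M := N)).toMultilinearMap.map_smul_univ (fun _ => x) (fun j => G (v j))
  simp only [Finset.prod_const, Finset.card_univ, Fintype.card_fin] at h
  exact h

/-- A bijective map induces a bijection on exterior powers. -/
theorem map_bijective {R : Type*} [CommRing R] {M N : Type*} [AddCommGroup M] [Module R M]
    [AddCommGroup N] [Module R N] (G : M ≃ₗ[R] N) (p : ℕ) :
    Function.Bijective (exteriorPower.map p G.toLinearMap) := by
  refine ⟨exteriorPower.map_injective G.symm.toLinearMap ?_, exteriorPower.map_surjective G.surjective⟩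
  ext v
  simp

section Chain

variable {E F : X.Modules} {s : E ⟶ Coh.structureModule X} {t : F ⟶ Coh.structureModule X}

/-- A map which is a scalar times a bijection on a chart induces a power of the scalar times a bijection. -/
theorem chainMap_app_eq (f : E ⟶ F) (C : KoszSh.Cx E s) (D : KoszSh.Cx F t) (φ : C.K ⟶ D.K)
    (hφ : ∀ (p : ℕ) (U : X.affineOpens) (e : Fin p → Γ(E, U.1)),
      (φ.f p).app U.1 ((C.loc p U).symm (exteriorPower.ιMulti _ p e)) =
        (D.loc p U).symm (exteriorPower.ιMulti _ p (fun j => f.app U.1 (e j))))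
    (W : X.affineOpens) (x : Γ(X, W.1)) (G : Γ(E, W.1) ≃ₗ[Γ(X, W.1)] Γ(F, W.1))
    (hG : ∀ t, f.app W.1 t = x • G t) (p : ℕ) :
    ∃ σ : Γ(C.K.X p, W.1) ≃ₗ[Γ(X, W.1)] Γ(D.K.X p, W.1), ∀ z, (φ.f p).app W.1 z = x ^ p • σ z := by
  let M := LinearEquiv.ofBijective (exteriorPower.map p G.toLinearMap) (map_bijective G p)
  refine ⟨(C.loc p W).trans (M.trans (D.loc p W).symm), fun z => ?_⟩
  have h : (appₗ (φ.f p) W.1) ∘ₗ (C.loc p W).symm.toLinearMap =
      (D.loc p W).symm.toLinearMap ∘ₗ exteriorPower.map p (x • G.toLinearMap) := by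
    refine exteriorPower.linearMap_ext (AlternatingMap.ext fun v => ?_)
    simp only [LinearMap.compAlternatingMap_apply, LinearMap.comp_apply, LinearEquiv.coe_coe,
      exteriorPower.map_apply_ιMulti]
    refine (hφ p W v).trans ?_
    exact congrArg _ (congrArg _ (funext fun j => hG _))
  have h1 := LinearMap.congr_fun h (C.loc p W z)
  rw [map_smul_map] at h1
  simp only [LinearMap.comp_apply, LinearEquiv.coe_coe, LinearEquiv.symm_apply_apply,
    LinearMap.smul_apply, map_smul] at h1
  exact h1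

end Chain

end Groth.Agent.KosTwist
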