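import Groth.Agent.TMul.Power
import Groth.Agent.KosExt.Sheaf

/-!
Multiplication by powers of an ideal, and the comparison quotient of cycles.
-/

universe u

open CategoryTheory CategoryTheory.Limits AlgebraicGeometry TopologicalSpace Opposite

set_option autoImplicit false
set_option backward.isDefEq.respectTransparency false
set_option backward.isDefEq.respectTransparency.types false
set_option linter.style.haveILetI false

noncomputable section

namespace Groth.Agent.KosTwist

open Groth.Agent.QC

variable {X : Scheme.{u}} {L : X.Modules}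

/-- Evaluation of the second factor. -/
def mulBil (A : X.Modules) (β : L ⟶ Coh.structureModule X) (U : X.Opens) :
    Γ(A, U) →ₗ[Γ(X, U)] Γ(L, U) →ₗ[Γ(X, U)] Γ(A, U) :=
  LinearMap.mk₂ Γ(X, U) (fun m l => KoszSh.secForm β U l • m)
    (fun a b l => smul_add _ a b) (fun r a l => smul_comm _ r a)
    (fun a l l' => by rw [map_add, add_smul]) (fun r a l => by rw [map_smul, smul_eq_mul, mul_smul])

lemma mulBil_res (A : X.Modules) (β : L ⟶ Coh.structureModule X) {V U : X.Opens} (h : V ≤ U)
    (m : Γ(A, U)) (l : Γ(L, U)) :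
    res A h (mulBil A β U m l) = mulBil A β V (res A h m) (res L h l) := by
  show res A h (KoszSh.secForm β U l • m) = KoszSh.secForm β V (res L h l) • res A h m
  rw [res_smul, KosExt.secForm_res]

/-- Multiplication `A ⊗ L → A` by a cosection of `L`. -/
def mulHom (A : X.Modules) (β : L ⟶ Coh.structureModule X) : CohB1.tensorMod A L ⟶ A :=
  TMul.lift (mulBil A β) fun h m l => mulBil_res A β h m l

lemma mulHom_tm (A : X.Modules) (β : L ⟶ Coh.structureModule X) {U : X.Opens} (m : Γ(A, U)) (l : Γ(L, U)) :
    (mulHom A β).app U (TMul.tm m l) = KoszSh.secForm β U l • m :=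
  TMul.lift_tm (mulBil A β) (fun h m l => mulBil_res A β h m l) m l

/-- The powers of a cosection. -/
def powι (β : L ⟶ Coh.structureModule X) : (q : ℕ) → (CohB1.tensorPow L q ⟶ Coh.structureModule X)
  | 0 => 𝟙 (Coh.structureModule X)
  | q + 1 => mulHom (CohB1.tensorPow L q) β ≫ powι β q

lemma powι_pw (β : L ⟶ Coh.structureModule X) {U : X.Opens} (e : Γ(L, U)) :
    ∀ q : ℕ, KoszSh.secForm (powι β q) U (TMul.pw e q) = (KoszSh.secForm β U e) ^ q
  | 0 => by
    rw [pow_zero]
    rfl
  | q + 1 => by
    show OmegaSh.fnSect X U ((powι β q).app U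
      ((mulHom (CohB1.tensorPow L q) β).app U (TMul.tm (TMul.pw e q) e))) = _
    rw [mulHom_tm]
    show KoszSh.secForm (powι β q) U (KoszSh.secForm β U e • TMul.pw e q) = _
    rw [map_smul, powι_pw β e q, smul_eq_mul, pow_succ']

end Groth.Agent.KosTwist
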