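import Groth.Agent.KosTwist.Local
import Groth.Agent.KosTwist.Mul
import Groth.Agent.CohFinite.Tensor

/-!
Homology of the Koszul complex after twisting the ideals by an effective divisor.
-/

universe u

open CategoryTheory CategoryTheory.Limits AlgebraicGeometry TopologicalSpace Opposite

set_option autoImplicit false
set_option backward.isDefEq.respectTransparency false
set_option backward.isDefEq.respectTransparency.types false
set_option linter.style.haveILetI false
set_option maxHeartbeats 1000000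

noncomputable section

namespace Groth.Agent.KosTwist

open Groth.Agent.QC
open Groth.Agent.CohFinite (tmap tmap_tm)

variable {X : Scheme.{u}}

/-- Morphisms agreeing on a basis are equal. -/
theorem hom_ext_basis {M N : X.Modules} {φ ψ : M ⟶ N} {S : Set X.Opens} (hS : Conormal.IsBasisFam S)
    (h : ∀ W ∈ S, ∀ s, φ.app W s = ψ.app W s) : φ = ψ := by
  apply Scheme.Modules.hom_ext
  intro O
  ext s
  refine section_eq_of_locally fun z hz => ?_
  obtain ⟨W, hWS, hW, hzW⟩ := hS O z hz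
  exact ⟨W, hW, hzW, by rw [app_res, app_res, h W hWS]⟩

/-- The comparison `Z → Z|_D ×_{H|D} H` and its sections over affine opens. -/
theorem exists_quot (K : ChainComplex X.Modules ℕ) (hK : ∀ p, Coh.IsQCoh (K.X p)) (q : ℕ)
    (ID : X.IdealSheafData) :
    ∃ π : K.cycles q ⟶ Limits.pullback
        ((Scheme.Modules.pullback ID.subschemeι ⋙ Scheme.Modules.pushforward ID.subschemeι).map (K.homologyπ q))
        ((Scheme.Modules.pullbackPushforwardAdjunction ID.subschemeι).unit.app (K.homology q)),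
      ∀ (W : X.affineOpens) (x : Γ(X, W.1)), ID.ideal W = Ideal.span {x} →
        IsSMulRegular Γ(K.homology q, W.1) x →
        Function.Surjective (π.app W.1) ∧ ∀ z, π.app W.1 z = 0 ↔
          ∃ c, z = x • (K.toCycles (q + 1) q).app W.1 c := by
  let F := Scheme.Modules.pullback ID.subschemeι ⋙ Scheme.Modules.pushforward ID.subschemeι
  let uZ : K.cycles q ⟶ F.obj (K.cycles q) :=
    (Scheme.Modules.pullbackPushforwardAdjunction ID.subschemeι).unit.app (K.cycles q)
  let uH : K.homology q ⟶ F.obj (K.homology q) :=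
    (Scheme.Modules.pullbackPushforwardAdjunction ID.subschemeι).unit.app (K.homology q)
  let v₀ : F.obj (K.cycles q) ⟶ F.obj (K.homology q) := F.map (K.homologyπ q)
  have w : uZ ≫ v₀ = K.homologyπ q ≫ uH :=
    ((Scheme.Modules.pullbackPushforwardAdjunction ID.subschemeι).unit.naturality (K.homologyπ q)).symm
  let p₁ : Limits.pullback v₀ uH ⟶ F.obj (K.cycles q) := pullback.fst v₀ uH
  let p₂ : Limits.pullback v₀ uH ⟶ K.homology q := pullback.snd v₀ uH
  let π : K.cycles q ⟶ Limits.pullback v₀ uH := Limits.pullback.lift uZ (K.homologyπ q) w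
  have hfst : π ≫ p₁ = uZ := pullback.lift_fst _ _ w
  have hsnd : π ≫ p₂ = K.homologyπ q := pullback.lift_snd _ _ w
  have hcond : p₁ ≫ v₀ = p₂ ≫ uH := pullback.condition
  refine ⟨π, fun W x hxI hreg => ?_⟩
  have hZ := isQCoh_cycles K hK q
  have hH := isQCoh_homology K hK q
  obtain ⟨hsurj, hexact⟩ := homologyπ_app K hK q W
  have memZ : ∀ z : Γ(K.cycles q, W.1), uZ.app W.1 z = 0 ↔ ∃ v, z = x • v := fun z => by
    refine (pullSect_eq_zero_iff ID hZ W z).trans ?_
    rw [hxI, Submodule.ideal_span_singleton_smul, Submodule.mem_smul_pointwise_iff_exists]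
    exact ⟨fun ⟨v, _, hv⟩ => ⟨v, hv.symm⟩, fun ⟨v, hv⟩ => ⟨v, trivial, hv.symm⟩⟩
  have ext' : ∀ a c : Γ(Limits.pullback v₀ uH, W.1), p₁.app W.1 a = p₁.app W.1 c →
      p₂.app W.1 a = p₂.app W.1 c → a = c := fun a c h₁ h₂ => pullback_sect_ext v₀ uH h₁ h₂
  constructor
  · intro t
    obtain ⟨z, hz⟩ : ∃ z : Γ(K.cycles q, W.1), uZ.app W.1 z = p₁.app W.1 t :=
      unit_app_surjective ID hZ W _
    obtain ⟨w', hw'⟩ := hsurj (p₂.app W.1 t)
    have h2 : uH.app W.1 ((K.homologyπ q).app W.1 z - (K.homologyπ q).app W.1 w') = 0 := by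
      rw [map_sub, sub_eq_zero]
      calc uH.app W.1 ((K.homologyπ q).app W.1 z)
          = v₀.app W.1 (uZ.app W.1 z) := congr(($w).app W.1 z).symm
        _ = v₀.app W.1 (p₁.app W.1 t) := congrArg _ hz
        _ = uH.app W.1 (p₂.app W.1 t) := congr(($hcond).app W.1 t)
        _ = uH.app W.1 ((K.homologyπ q).app W.1 w') := congrArg _ hw'.symm
    have h3 := (pullSect_eq_zero_iff ID hH W _).1 h2
    rw [hxI, Submodule.ideal_span_singleton_smul, Submodule.mem_smul_pointwise_iff_exists] at h3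
    obtain ⟨y, -, hy⟩ := h3
    obtain ⟨v, rfl⟩ := hsurj y
    refine ⟨z - x • v, ext' _ _ ?_ ?_⟩
    · refine (congr(($hfst).app W.1 (z - x • v))).trans ?_
      rw [map_sub, (memZ (x • v)).2 ⟨v, rfl⟩, sub_zero]
      exact hz
    · refine (congr(($hsnd).app W.1 (z - x • v))).trans ?_
      rw [map_sub, Scheme.Modules.Hom.app_smul, hy, sub_sub_cancel]
      exact hw'
  · intro z
    constructor
    · intro hz
      have h1 : uZ.app W.1 z = 0 := by
        refine (congr(($hfst).app W.1 z)).symm.trans ?_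
        show p₁.app W.1 (π.app W.1 z) = 0
        exact (congrArg (p₁.app W.1) hz).trans (map_zero _)
      have h2 : (K.homologyπ q).app W.1 z = 0 := by
        refine (congr(($hsnd).app W.1 z)).symm.trans ?_
        show p₂.app W.1 (π.app W.1 z) = 0
        exact (congrArg (p₂.app W.1) hz).trans (map_zero _)
      obtain ⟨v, rfl⟩ := (memZ z).1 h1
      rw [Scheme.Modules.Hom.app_smul] at h2
      obtain ⟨c, rfl⟩ := hexact v (hreg.right_eq_zero_of_smul h2)
      exact ⟨c, rfl⟩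
    · rintro ⟨c, rfl⟩
      refine ext' _ _ ?_ ?_
      · refine (congr(($hfst).app W.1 _)).trans ?_
        rw [(memZ _).2 ⟨_, rfl⟩, map_zero]
      · refine (congr(($hsnd).app W.1 _)).trans ?_
        rw [map_zero, Scheme.Modules.Hom.app_smul]
        refine (congrArg (x • ·) (congr(($(K.toCycles_comp_homologyπ (q + 1) q)).app W.1 c))).trans ?_
        exact smul_zero x

/-- A chart: all ideals involved are principal. -/
def IsChart {n : ℕ} (IY : Fin n → X.IdealSheafData) (ID : X.IdealSheafData) (O : X.Opens) : Prop :=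
  ∃ (W : X.affineOpens) (x : Γ(X, W.1)) (u : Fin n → Γ(X, W.1)), W.1 = O ∧
    x ∈ nonZeroDivisors Γ(X, W.1) ∧ ID.ideal W = Ideal.span {x} ∧
    ∀ i, u i ∈ nonZeroDivisors Γ(X, W.1) ∧ (IY i).ideal W = Ideal.span {u i}

theorem isBasisFam_isChart {n : ℕ} (IY : Fin n → X.IdealSheafData) (hY : ∀ i, BlowUp.IsEffCartierIdeal (IY i))
    (ID : X.IdealSheafData) (hD : BlowUp.IsEffCartierIdeal ID) :
    Conormal.IsBasisFam {O | IsChart IY ID O} := by
  intro O z hz
  obtain ⟨W, hzW, hWO, u, hu⟩ := exists_chart (n := n + 1) (Fin.cons ID IY) (Fin.cases hD hY) hz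
  refine ⟨W.1, ⟨W, u 0, fun i => u i.succ, rfl, (hu 0).1, ?_, fun i => ⟨(hu i.succ).1, ?_⟩⟩, hWO, hzW⟩
  · exact (hu 0).2
  · exact (hu i.succ).2

theorem exists_local_basis {n : ℕ} (IY : Fin n → X.IdealSheafData) (hY : ∀ i, BlowUp.IsEffCartierIdeal (IY i))
    (z : X) : ∃ W : X.affineOpens, z ∈ W.1 ∧
      Nonempty (Module.Basis (Fin n) Γ(X, W.1) Γ(∐ fun i => ClSub.idealMod (IY i), W.1)) := by
  obtain ⟨W, hzW, -, u, hu⟩ := exists_chart IY hY (O := ⊤) (z := z) trivial
  choose e _ heg using fun i => exists_gen_of_span (IY i) W (hu i).1 (hu i).2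
  obtain ⟨b, -⟩ := exists_basis_sigma (fun i => ClSub.idealMod (IY i)) e heg
  exact ⟨W, hzW, ⟨b⟩⟩

/-- Multiplication by a nonzerodivisor is injective on a module with a basis. -/
theorem smul_inj_of_basis {R : Type*} [CommRing R] {M : Type*} [AddCommGroup M] [Module R M] {κ : Type*}
    (b : Module.Basis κ R M) {r : R} (hr : r ∈ nonZeroDivisors R) : Function.Injective fun m : M => r • m := by
  intro a c h
  refine b.repr.injective (Finsupp.ext fun k => ?_)
  have := congrArg (fun m => b.repr m k) h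
  simp only [map_smul, Finsupp.smul_apply, smul_eq_mul] at this
  exact (mul_cancel_left_mem_nonZeroDivisors hr).1 this

/-- What a chart provides. -/
theorem chart_data {n : ℕ} (IY : Fin n → X.IdealSheafData) (ID : X.IdealSheafData)
    (f : (∐ fun i => ClSub.idealMod (IY i * ID)) ⟶ (∐ fun i => ClSub.idealMod (IY i)))
    (g : ∀ i, ClSub.idealMod (IY i * ID) ⟶ ClSub.idealMod (IY i))
    (hg : ∀ i, g i ≫ ClSub.idealModι (IY i) = ClSub.idealModι (IY i * ID))
    (hfg : ∀ i, Sigma.ι (fun i => ClSub.idealMod (IY i * ID)) i ≫ f =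
      g i ≫ Sigma.ι (fun i => ClSub.idealMod (IY i)) i)
    (C : KoszSh.Cx (∐ fun i => ClSub.idealMod (IY i)) (Limits.Sigma.desc fun i => ClSub.idealModι (IY i)))
    (C' : KoszSh.Cx (∐ fun i => ClSub.idealMod (IY i * ID))
      (Limits.Sigma.desc fun i => ClSub.idealModι (IY i * ID)))
    (φ : C'.K ⟶ C.K)
    (hφ : ∀ (p : ℕ) (U : X.affineOpens) (e : Fin p → Γ(∐ fun i => ClSub.idealMod (IY i * ID), U.1)),
      (φ.f p).app U.1 ((C'.loc p U).symm (exteriorPower.ιMulti _ p e)) =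
        (C.loc p U).symm (exteriorPower.ιMulti _ p (fun j => f.app U.1 (e j))))
    {O : X.Opens} (hO : IsChart IY ID O) :
    ∃ (hA : IsAffineOpen O) (x : Γ(X, O)) (σ : ∀ p, Γ(C'.K.X p, O) ≃ₗ[Γ(X, O)] Γ(C.K.X p, O))
      (e : Γ(ClSub.idealMod ID, O)),
      x ∈ nonZeroDivisors Γ(X, O) ∧ ID.ideal ⟨O, hA⟩ = Ideal.span {x} ∧
      TMul.IsGen e ∧ KoszSh.secForm (ClSub.idealModι ID) O e = x ∧
      (∀ p z, (φ.f p).app O z = x ^ p • σ p z) ∧
      ∀ p k, Function.Injective fun m : Γ(C.K.X p, O) => x ^ k • m := by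
  obtain ⟨W, x, u, rfl, hx, hxI, hu⟩ := hO
  obtain ⟨b, G, hG⟩ := exists_equiv IY ID f g hg hfg W hx hxI hu
  obtain ⟨e, he, heg⟩ := exists_gen_of_span ID W hx hxI
  choose σ hσ using fun p => chainMap_app_eq f C' C φ hφ W x G hG p
  exact ⟨W.2, x, σ, e, hx, hxI, heg, he, hσ, fun p k =>
    smul_inj_of_basis ((b.exteriorPower p).map (C.loc p W).symm) (pow_mem hx k)⟩

/-- The homology of the twisted Koszul complex. -/
theorem nonempty_homology_iso {n : ℕ} (IY : Fin n → X.IdealSheafData)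
    (hY : ∀ i, BlowUp.IsEffCartierIdeal (IY i)) (ID : X.IdealSheafData) (hD : BlowUp.IsEffCartierIdeal ID)
    (C : KoszSh.Cx (∐ fun i => ClSub.idealMod (IY i)) (Limits.Sigma.desc fun i => ClSub.idealModι (IY i)))
    (C' : KoszSh.Cx (∐ fun i => ClSub.idealMod (IY i * ID))
      (Limits.Sigma.desc fun i => ClSub.idealModι (IY i * ID))) (q : ℕ)
    (hreg : ∀ (U : X.affineOpens) (x : Γ(X, U.1)), x ∈ nonZeroDivisors Γ(X, U.1) →
      ID.ideal U = Ideal.span {x} → IsSMulRegular Γ(C.K.homology q, U.1) x) :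
    Nonempty (C'.K.homology q ≅ CohB1.tensorMod (Limits.pullback
      ((Scheme.Modules.pullback ID.subschemeι ⋙ Scheme.Modules.pushforward ID.subschemeι).map (C.K.homologyπ q))
      ((Scheme.Modules.pullbackPushforwardAdjunction ID.subschemeι).unit.app (C.K.homology q)))
      (CohB1.tensorPow (ClSub.idealMod ID) q)) := by
  have hY' : ∀ i, BlowUp.IsEffCartierIdeal (IY i * ID) := fun i => BlowUpLib.cartier_mul (hY i) hD
  haveI hE : (∐ fun i => ClSub.idealMod (IY i)).IsQuasicoherent :=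
    isQCoh_sigma _ fun i => isQCoh_idealMod _
  haveI hE' : (∐ fun i => ClSub.idealMod (IY i * ID)).IsQuasicoherent :=
    isQCoh_sigma _ fun i => isQCoh_idealMod _
  have hK : ∀ p, Coh.IsQCoh (C.K.X p) := fun p => isQCoh_X C n (exists_local_basis IY hY) p
  have hK' : ∀ p, Coh.IsQCoh (C'.K.X p) := fun p => isQCoh_X C' n (exists_local_basis _ hY') p
  choose g hg using fun i => exists_inc (IY i) ID
  let f : (∐ fun i => ClSub.idealMod (IY i * ID)) ⟶ (∐ fun i => ClSub.idealMod (IY i)) :=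
    Limits.Sigma.desc fun i => g i ≫ Sigma.ι (fun i => ClSub.idealMod (IY i)) i
  have hfg : ∀ i, Sigma.ι (fun i => ClSub.idealMod (IY i * ID)) i ≫ f =
      g i ≫ Sigma.ι (fun i => ClSub.idealMod (IY i)) i := fun i => Sigma.ι_desc _ _
  have hf : f ≫ (Limits.Sigma.desc fun i => ClSub.idealModι (IY i)) =
      Limits.Sigma.desc fun i => ClSub.idealModι (IY i * ID) := Sigma.hom_ext _ _ fun i => by
    rw [← Category.assoc, hfg, Category.assoc, Sigma.ι_desc, Sigma.ι_desc, hg]
  obtain ⟨φ, hφ, -⟩ := KosExt.existsUnique_chainMap f hf C' C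
  have hS := isBasisFam_isChart IY hY ID hD
  have hdata := fun (O : X.Opens) (hO : IsChart IY ID O) => chart_data IY ID f g hg hfg C C' φ hφ hO
  obtain ⟨π, hπ⟩ := exists_quot C.K hK q ID
  -- the twisted cycles inside the untwisted chains
  let j : C'.K.cycles q ⟶ C.K.X q := C'.K.iCycles q ≫ φ.f q
  haveI hj : Mono j := Conormal.mono_of_basis j hS fun O hO a c hac => by
    obtain ⟨hA, x, σ, e, -, -, -, -, hσ, hinj⟩ := hdata O hO
    refine app_injective_of_mono (C'.K.iCycles q) O ((σ q).injective (hinj q q ?_))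
    show x ^ q • _ = x ^ q • _
    rw [← hσ, ← hσ]
    exact hac
  let μ₀ := mulHom (C.K.cycles q) (powι (ClSub.idealModι ID) q) ≫ C.K.iCycles q
  have hμ₀ : ∀ (O : X.Opens) (e : Γ(ClSub.idealMod ID, O)) (x : Γ(X, O)),
      KoszSh.secForm (ClSub.idealModι ID) O e = x → ∀ z,
      μ₀.app O (TMul.tm z (TMul.pw e q)) = x ^ q • (C.K.iCycles q).app O z := fun O e x hex z => by
    show (C.K.iCycles q).app O ((mulHom _ _).app O (TMul.tm z (TMul.pw e q))) = _
    rw [mulHom_tm, powι_pw, hex, Scheme.Modules.Hom.app_smul]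
  -- cycles of the twisted complex are the multiples of cycles
  have hcyc : ∀ (O : X.Opens) (x : Γ(X, O)) (σ : ∀ p, Γ(C'.K.X p, O) ≃ₗ[Γ(X, O)] Γ(C.K.X p, O)),
      (∀ p z, (φ.f p).app O z = x ^ p • σ p z) →
      (∀ p k, Function.Injective fun m : Γ(C.K.X p, O) => x ^ k • m) →
      (∀ z : Γ(C.K.cycles q, O), ∃ y, j.app O y = x ^ q • (C.K.iCycles q).app O z) ∧
      ∀ y, ∃ z : Γ(C.K.cycles q, O), j.app O y = x ^ q • (C.K.iCycles q).app O z := by
    intro O x σ hσ hinj
    obtain ⟨j₀, hj₀⟩ : ∃ j₀, (ComplexShape.down ℕ).next q = j₀ := ⟨_, rfl⟩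
    have hcomm : ∀ y, (φ.f j₀).app O ((C'.K.d q j₀).app O y) = (C.K.d q j₀).app O ((φ.f q).app O y) :=
      fun y => congr(($(φ.comm q j₀)).app O y).symm
    constructor
    · intro z
      have hz := (mem_range_iCycles C.K q j₀ hj₀ O _).1 ⟨z, rfl⟩
      have h1 : (C'.K.d q j₀).app O ((σ q).symm ((C.K.iCycles q).app O z)) = 0 := by
        refine (σ j₀).injective (hinj j₀ j₀ ?_)
        show x ^ j₀ • _ = x ^ j₀ • _
        rw [← hσ, hcomm, hσ, LinearEquiv.apply_symm_apply, Scheme.Modules.Hom.app_smul, hz,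
          smul_zero, map_zero, smul_zero]
      obtain ⟨y, hy⟩ := (mem_range_iCycles C'.K q j₀ hj₀ O _).2 h1
      refine ⟨y, ?_⟩
      show (φ.f q).app O ((C'.K.iCycles q).app O y) = _
      rw [hy, hσ, LinearEquiv.apply_symm_apply]
    · intro y
      have hy := (mem_range_iCycles C'.K q j₀ hj₀ O _).1 ⟨y, rfl⟩
      have h1 : (C.K.d q j₀).app O (σ q ((C'.K.iCycles q).app O y)) = 0 := by
        refine hinj j₀ q ?_
        show x ^ q • _ = x ^ q • _
        rw [← Scheme.Modules.Hom.app_smul, ← hσ, ← hcomm, hy, map_zero, smul_zero]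
      obtain ⟨z, hz⟩ := (mem_range_iCycles C.K q j₀ hj₀ O _).2 h1
      refine ⟨z, ?_⟩
      show (φ.f q).app O ((C'.K.iCycles q).app O y) = _
      rw [hz, hσ]
  have hgen : ∀ (O : X.Opens) (e : Γ(ClSub.idealMod ID, O)), TMul.IsGen e →
      ∀ (A : X.Modules), Function.Bijective fun m : Γ(A, O) => TMul.tm m (TMul.pw e q) := fun O e he A => by
    have h := TMul.tm_bijective (M := A) (TMul.isGen_pw he q) O le_rfl
    simpa only [res_self] using h
  have hlift : μ₀ ≫ cokernel.π j = 0 := hom_ext_basis hS fun O hO t => by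
    obtain ⟨hA, x, σ, e, -, -, heg, hex, hσ, hinj⟩ := hdata O hO
    obtain ⟨z, rfl⟩ := (hgen O e heg (C.K.cycles q)).2 t
    obtain ⟨y, hy⟩ := (hcyc O x σ hσ hinj).1 z
    show (cokernel.π j).app O (μ₀.app O (TMul.tm z (TMul.pw e q))) = 0
    rw [hμ₀ O e x hex, ← hy]
    exact congr(($(cokernel.condition j)).app O y)
  let μ := Abelian.monoLift j μ₀ hlift
  have hμ : μ ≫ j = μ₀ := Abelian.monoLift_comp j μ₀ hlift
  have hjinj : ∀ O, Function.Injective (j.app O) := fun O => app_injective_of_mono j O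
  let a := tmap π (CohB1.tensorPow (ClSub.idealMod ID) q)
  let b := μ ≫ C'.K.homologyπ q
  haveI : Epi a := Conormal.epi_of_basis a hS fun O hO t => by
    obtain ⟨hA, x, σ, e, hx, hxI, heg, -, -, -⟩ := hdata O hO
    obtain ⟨m, rfl⟩ := (hgen O e heg _).2 t
    obtain ⟨z, rfl⟩ := (hπ ⟨O, hA⟩ x hxI (hreg ⟨O, hA⟩ x hx hxI)).1 m
    exact ⟨TMul.tm z (TMul.pw e q), tmap_tm _ _ _ _⟩
  haveI : Epi b := Conormal.epi_of_basis b hS fun O hO t => by
    obtain ⟨hA, x, σ, e, -, -, -, hex, hσ, hinj⟩ := hdata O hO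
    obtain ⟨y, rfl⟩ := (homologyπ_app C'.K hK' q ⟨O, hA⟩).1 t
    obtain ⟨z, hz⟩ := (hcyc O x σ hσ hinj).2 y
    refine ⟨TMul.tm z (TMul.pw e q), ?_⟩
    refine congrArg ((C'.K.homologyπ q).app O) (hjinj O ?_)
    rw [hz, ← hμ₀ O e x hex]
    exact congr(($hμ).app O (TMul.tm z (TMul.pw e q)))
  obtain ⟨iso⟩ := nonempty_iso_of_epi_of_kernel b a hS fun O hO t => by
    obtain ⟨hA, x, σ, e, hx, hxI, heg, hex, hσ, hinj⟩ := hdata O hO
    obtain ⟨z, rfl⟩ := (hgen O e heg (C.K.cycles q)).2 t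
    have hπW := (hπ ⟨O, hA⟩ x hxI (hreg ⟨O, hA⟩ x hx hxI)).2 z
    have ha : a.app O (TMul.tm z (TMul.pw e q)) = 0 ↔ π.app O z = 0 := by
      rw [tmap_tm]
      refine ⟨fun h => (hgen O e heg _).1 (h.trans (TMul.zero_tm _).symm), fun h => ?_⟩
      rw [h, TMul.zero_tm]
    have hjμ : j.app O (μ.app O (TMul.tm z (TMul.pw e q))) = x ^ q • (C.K.iCycles q).app O z :=
      (congr(($hμ).app O (TMul.tm z (TMul.pw e q)))).trans (hμ₀ O e x hex z)
    have hjt : ∀ b', j.app O ((C'.K.toCycles (q + 1) q).app O b') =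
        x ^ (q + 1) • (C.K.d (q + 1) q).app O (σ (q + 1) b') := fun b' => by
      rw [← Scheme.Modules.Hom.app_smul, ← hσ]
      refine Eq.trans ?_ (congr(($(φ.comm (q + 1) q)).app O b')).symm
      show (φ.f q).app O ((C'.K.iCycles q).app O ((C'.K.toCycles (q + 1) q).app O b')) = _
      exact congrArg ((φ.f q).app O) (congr(($(C'.K.toCycles_i (q + 1) q)).app O b'))
    rw [ha, hπW]
    show (C'.K.homologyπ q).app O (μ.app O (TMul.tm z (TMul.pw e q))) = 0 ↔ _
    constructor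
    · intro h
      obtain ⟨b', hb'⟩ := (homologyπ_app C'.K hK' q ⟨O, hA⟩).2 _ h
      refine ⟨σ (q + 1) b', app_injective_of_mono (C.K.iCycles q) O (hinj q q ?_)⟩
      show x ^ q • _ = x ^ q • _
      rw [← hjμ, ← hb', hjt, Scheme.Modules.Hom.app_smul, smul_smul, ← pow_succ]
      exact congrArg _ (congr(($(C.K.toCycles_i (q + 1) q)).app O (σ (q + 1) b'))).symm
    · rintro ⟨c, rfl⟩
      have : μ.app O (TMul.tm (x • (C.K.toCycles (q + 1) q).app O c) (TMul.pw e q)) =
          (C'.K.toCycles (q + 1) q).app O ((σ (q + 1)).symm c) := by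
        refine hjinj O (hjμ.trans ?_)
        rw [hjt, LinearEquiv.apply_symm_apply, Scheme.Modules.Hom.app_smul, smul_smul, ← pow_succ]
        exact congrArg _ (congr(($(C.K.toCycles_i (q + 1) q)).app O c))
      rw [this]
      exact congr(($(C'.K.toCycles_comp_homologyπ (q + 1) q)).app O ((σ (q + 1)).symm c))
  exact ⟨iso⟩

end Groth.Agent.KosTwist
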