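import Groth.Agent.KosExt.Hom
import Groth.Agent.AmpleHomeo.Basic
import Groth.Agent.Devissage.Power
import Groth.Prelude.Def_ClSub2

/-!
Sections of pullbacks to closed subschemes, fibre products, finite sums and homology of quasi-coherent modules.
-/

universe u

open CategoryTheory CategoryTheory.Limits AlgebraicGeometry TopologicalSpace Opposite

set_option autoImplicit false
set_option backward.isDefEq.respectTransparency false
set_option backward.isDefEq.respectTransparency.types false
set_option linter.style.haveILetI false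

noncomputable section

namespace Groth.Agent.KosTwist

open Groth.Agent.QC

variable {X : Scheme.{u}}

/-- A section pulled back to a closed subscheme vanishes iff it lies in the ideal times the module. -/
theorem pullSect_eq_zero_iff (I : X.IdealSheafData) {M : X.Modules} (hM : Coh.IsQCoh M)
    (W : X.affineOpens) (m : Γ(M, W.1)) :
    OmegaSh.pullSect I.subschemeι M W.1 m = 0 ↔
      m ∈ (I.ideal W • ⊤ : Submodule Γ(X, W.1) Γ(M, W.1)) := by
  constructor
  · intro hm
    let φ : Γ(X, W.1) →+* Γ(I.subscheme, I.subschemeι ⁻¹ᵁ W.1) := (I.subschemeι.app W.1).hom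
    have hφ : Function.Surjective φ := I.subschemeι.app_surjective W.1 W.2
    let N := Γ(M, W.1) ⧸ (I.ideal W • ⊤ : Submodule Γ(X, W.1) Γ(M, W.1))
    let ε : (Γ(X, W.1) ⧸ I.ideal W) ≃+* Γ(I.subscheme, I.subschemeι ⁻¹ᵁ W.1) :=
      (Ideal.quotEquivOfEq (I.ker_subschemeι_app W).symm).trans
        (RingHom.quotientKerEquivOfSurjective hφ)
    letI : Module Γ(I.subscheme, I.subschemeι ⁻¹ᵁ W.1) N := Module.compHom N ε.symm.toRingHom
    have hsm : ∀ (r : Γ(X, W.1)) (y : Γ(M, W.1)),
        φ r • (Submodule.Quotient.mk y : N) = Submodule.Quotient.mk (r • y) := fun r y => by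
      have : ε.symm (φ r) = Ideal.Quotient.mk _ r := by
        rw [RingEquiv.symm_apply_eq]
        rfl
      show ε.symm (φ r) • (Submodule.Quotient.mk y : N) = _
      rw [this]
      rfl
    have happ : ∀ r, (I.subschemeι.appLE W.1 (I.subschemeι ⁻¹ᵁ W.1) le_rfl).hom r = φ r := fun r => by
      rw [← Scheme.Hom.app_eq_appLE]
    let w : Γ(M, W.1) →ₛₗ[(I.subschemeι.appLE W.1 (I.subschemeι ⁻¹ᵁ W.1) le_rfl).hom] N :=
      { toFun := fun y => Submodule.Quotient.mk y
        map_add' := fun a b => rfl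
        map_smul' := fun r y => by rw [happ, hsm] }
    obtain ⟨f, hf, -⟩ := RelTilde.isBC_unit I.subschemeι hM W.2 (W.2.preimage _) le_rfl N w
    have h0 : RelTilde.resθ I.subschemeι
        ((Scheme.Modules.pullbackPushforwardAdjunction I.subschemeι).unit.app M)
        (le_rfl : I.subschemeι ⁻¹ᵁ W.1 ≤ I.subschemeι ⁻¹ᵁ W.1) m = 0 :=
      (res_self _ _ _).trans hm
    have h1 := hf m
    rw [h0, map_zero] at h1
    exact (Submodule.Quotient.mk_eq_zero _).1 h1.symm
  · intro hm
    refine Submodule.smul_induction_on hm (fun a ha y _ => ?_) fun a b ha hb => ?_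
    · rw [PBundle.pullSect_smul]
      have : I.subschemeι.app W.1 a = 0 := by
        rw [← RingHom.mem_ker, I.ker_subschemeι_app W]
        exact ha
      rw [this, zero_smul]
    · show (((Scheme.Modules.pullbackPushforwardAdjunction I.subschemeι).unit.app M).app W.1) (a + b) = 0
      rw [map_add]
      exact (congrArg₂ (· + ·) ha hb).trans (add_zero 0)

/-- Over an affine open the unit to a closed subscheme is surjective. -/
theorem unit_app_surjective (I : X.IdealSheafData) {M : X.Modules} (hM : Coh.IsQCoh M) (W : X.affineOpens) :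
    Function.Surjective
      (((Scheme.Modules.pullbackPushforwardAdjunction I.subschemeι).unit.app M).app W.1) :=
  AmpleHomeo.pullSect_surjective I.subschemeι hM W.2

/-- Sections of a fibre product are detected by the projections. -/
theorem pullback_sect_ext {A B S : X.Modules} (f : A ⟶ S) (g : B ⟶ S) {W : X.Opens}
    {s t : Γ(Limits.pullback f g, W)} (h₁ : (pullback.fst f g).app W s = (pullback.fst f g).app W t)
    (h₂ : (pullback.snd f g).app W s = (pullback.snd f g).app W t) : s = t := by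
  let d : Limits.pullback f g ⟶ A ⊞ B :=
    pullback.fst f g ≫ biprod.inl + pullback.snd f g ≫ biprod.inr
  have hd : d ≫ biprod.fst = pullback.fst f g ∧ d ≫ biprod.snd = pullback.snd f g := by
    constructor <;> simp [d]
  haveI : Mono d := ⟨fun {Z} a b hab => pullback.hom_ext
    (by rw [← hd.1, ← Category.assoc, hab, Category.assoc])
    (by rw [← hd.2, ← Category.assoc, hab, Category.assoc])⟩
  refine app_injective_of_mono d W ?_
  show (biprod.inl : A ⟶ A ⊞ B).app W ((pullback.fst f g).app W s) +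
      (biprod.inr : B ⟶ A ⊞ B).app W ((pullback.snd f g).app W s) = _
  rw [h₁, h₂]
  rfl

/-- Two quotients with the same kernel on a basis are isomorphic. -/
theorem nonempty_iso_of_epi_of_kernel {A B B' : X.Modules} (a : A ⟶ B) (b : A ⟶ B') [Epi a] [Epi b]
    {S : Set X.Opens} (hS : Conormal.IsBasisFam S)
    (h : ∀ W ∈ S, ∀ s : Γ(A, W), a.app W s = 0 ↔ b.app W s = 0) : Nonempty (B ≅ B') := by
  have key : ∀ {B₁ B₂ : X.Modules} (a₁ : A ⟶ B₁) (a₂ : A ⟶ B₂),
      (∀ W ∈ S, ∀ s : Γ(A, W), a₁.app W s = 0 → a₂.app W s = 0) → kernel.ι a₁ ≫ a₂ = 0 := by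
    intro B₁ B₂ a₁ a₂ h₁₂
    apply Scheme.Modules.hom_ext
    intro O
    ext k
    refine section_eq_of_locally fun x hx => ?_
    obtain ⟨W, hWS, hW, hxW⟩ := hS O x hx
    refine ⟨W, hW, hxW, ?_⟩
    show res B₂ hW (a₂.app O ((kernel.ι a₁).app O k)) = res B₂ hW 0
    rw [app_res, map_zero]
    refine h₁₂ W hWS _ ?_
    rw [← app_res, (mem_range_kernel_app a₁ O _).1 ⟨k, rfl⟩, map_zero]
  let f : B ⟶ B' := Abelian.epiDesc a b (key a b fun W hW s => (h W hW s).1)
  let g : B' ⟶ B := Abelian.epiDesc b a (key b a fun W hW s => (h W hW s).2)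
  refine ⟨⟨f, g, ?_, ?_⟩⟩
  · rw [← cancel_epi a, ← Category.assoc, Abelian.comp_epiDesc, Abelian.comp_epiDesc, Category.comp_id]
  · rw [← cancel_epi b, ← Category.assoc, Abelian.comp_epiDesc, Abelian.comp_epiDesc, Category.comp_id]

/-- A finite sum of quasi-coherent modules is quasi-coherent. -/
theorem isQCoh_sigma {n : ℕ} (M : Fin n → X.Modules) (h : ∀ i, Coh.IsQCoh (M i)) : Coh.IsQCoh (∐ M) :=
  isQCoh_of_iso (biproduct.isoCoproduct M) (Devissage.isQCoh_biproduct M h)

/-- Sections of a finite sum. -/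
theorem sigma_sections_bijective {n : ℕ} (M : Fin n → X.Modules) (W : X.Opens) :
    Function.Bijective fun c : ∀ i, Γ(M i, W) => ∑ i, (Sigma.ι M i).app W (c i) := by
  classical
  let p : ∀ i, (∐ M) ⟶ M i := fun i => (biproduct.isoCoproduct M).inv ≫ biproduct.π M i
  have hι : ∀ i, (Sigma.ι M i) ≫ (biproduct.isoCoproduct M).inv = biproduct.ι M i := fun i => by
    simp [biproduct.isoCoproduct_inv]
  have hp : ∀ (i j : Fin n) (t : Γ(M i, W)), (p j).app W ((Sigma.ι M i).app W t) =
      (biproduct.ι M i ≫ biproduct.π M j).app W t := fun i j t => by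
    rw [← hι]; rfl
  have hsum : ∀ t : Γ(∐ M, W), ∑ i, (Sigma.ι M i).app W ((p i).app W t) = t := fun t => by
    let φ : ((∐ M) ⟶ (∐ M)) →+ Γ(∐ M, W) := AddMonoidHom.mk' (fun f => f.app W t) fun a b => rfl
    have h : ∑ i, p i ≫ Sigma.ι M i = 𝟙 (∐ M) := by
      have : ∀ i, p i ≫ Sigma.ι M i = (biproduct.isoCoproduct M).inv ≫
          (biproduct.π M i ≫ biproduct.ι M i) ≫ (biproduct.isoCoproduct M).hom := fun i => by
        rw [← hι]; simp only [p, Category.assoc, Iso.inv_hom_id, Category.comp_id]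
      simp only [this, ← Preadditive.sum_comp, ← Preadditive.comp_sum, biproduct.total,
        Category.id_comp, Iso.inv_hom_id]
    exact (map_sum φ _ _).symm.trans (congrArg φ h)
  refine ⟨fun c c' hc => funext fun j => ?_, fun t => ⟨fun i => (p i).app W t, hsum t⟩⟩
  have key : ∀ d : ∀ i, Γ(M i, W), (p j).app W (∑ i, (Sigma.ι M i).app W (d i)) = d j := fun d => by
    rw [map_sum, Finset.sum_eq_single j (fun i _ hij => ?_) (by simp), hp, biproduct.ι_π_self]
    · rfl
    · rw [hp, biproduct.ι_π_ne _ hij]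
      rfl
  rw [← key c, ← key c']
  exact congrArg ((p j).app W) hc

section Homology

variable (K : ChainComplex X.Modules ℕ)

lemma exists_cyclesIso (i : ℕ) : ∃ e : K.cycles i ≅ kernel (K.d i ((ComplexShape.down ℕ).next i)),
    e.hom ≫ kernel.ι _ = K.iCycles i := by
  refine ⟨IsLimit.conePointUniqueUpToIso (K.cyclesIsKernel i _ rfl) (limit.isLimit _), ?_⟩
  exact IsLimit.conePointUniqueUpToIso_hom_comp _ _ WalkingParallelPair.zero

variable (hK : ∀ p, Coh.IsQCoh (K.X p))

include hK in
theorem isQCoh_cycles (i : ℕ) : Coh.IsQCoh (K.cycles i) := by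
  obtain ⟨e, -⟩ := exists_cyclesIso K i
  exact isQCoh_of_iso e.symm (isQCoh_kernel (hK _) (hK _) _)

include hK in
theorem isQCoh_homology (i : ℕ) : Coh.IsQCoh (K.homology i) := by
  let e := IsColimit.coconePointUniqueUpToIso (colimit.isColimit _)
    (K.homologyIsCokernel (i + 1) i (by simp))
  exact isQCoh_of_iso e (isQCoh_cokernel (hK _) (isQCoh_cycles K hK i) _)

/-- Sections of the cycles. -/
theorem mem_range_iCycles (i j : ℕ) (hj : (ComplexShape.down ℕ).next i = j) (W : X.Opens) (t : Γ(K.X i, W)) :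
    t ∈ Set.range ((K.iCycles i).app W) ↔ (K.d i j).app W t = 0 := by
  subst hj
  obtain ⟨e, he⟩ := exists_cyclesIso K i
  rw [← mem_range_kernel_app]
  constructor
  · rintro ⟨a, rfl⟩
    exact ⟨e.hom.app W a, congr(($he).app W a)⟩
  · rintro ⟨a, rfl⟩
    refine ⟨e.inv.app W a, ?_⟩
    have h : e.inv ≫ K.iCycles i = kernel.ι _ := by rw [← he, Iso.inv_hom_id_assoc]
    exact congr(($h).app W a)

include hK in
/-- Over an affine open the homology is the cycles modulo the boundaries. -/
theorem homologyπ_app (i : ℕ) (W : X.affineOpens) :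
    Function.Surjective ((K.homologyπ i).app W.1) ∧
      ∀ z : Γ(K.cycles i, W.1), (K.homologyπ i).app W.1 z = 0 →
        ∃ b, (K.toCycles (i + 1) i).app W.1 b = z := by
  refine ⟨app_surjective_of_epi W.2 (isQCoh_cycles K hK i) (isQCoh_homology K hK i) _, fun z hz => ?_⟩
  let T := kernel.lift (K.homologyπ i) (K.toCycles (i + 1) i) (K.toCycles_comp_homologyπ _ _)
  have hex : (ShortComplex.mk _ _ (K.toCycles_comp_homologyπ (i + 1) i)).Exact :=
    ShortComplex.exact_of_g_is_cokernel _ (K.homologyIsCokernel (i + 1) i (by simp))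
  haveI : Epi T := (ShortComplex.exact_iff_epi_kernel_lift _).1 hex
  obtain ⟨k, hk⟩ := (mem_range_kernel_app (K.homologyπ i) W.1 z).2 hz
  obtain ⟨b, hb⟩ := app_surjective_of_epi W.2 (hK (i + 1))
    (isQCoh_kernel (isQCoh_cycles K hK i) (isQCoh_homology K hK i) _) T k
  refine ⟨b, ?_⟩
  rw [← hk, ← hb]
  exact (congr(($(kernel.lift_ι (K.homologyπ i) (K.toCycles (i + 1) i) (K.toCycles_comp_homologyπ _ _))).app W.1 b)).symm

end Homology

end Groth.Agent.KosTwist
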